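import Groth.Agent.RInv.K867.Basic
import Mathlib.RingTheory.Flat.Basic
import Mathlib.RingTheory.TensorProduct.Maps

/-!
Base change of the fixed ring of an involution.
-/

namespace K867.BaseChange

universe u v w

open K867.Basic
open scoped TensorProduct

section

variable {S : Type u} {R : Type v} {S' : Type w} [CommRing S] [CommRing R] [Algebra S R]
  [CommRing S'] [Algebra S S'] {lam : R ≃ₐ[S] R}

/-- the trace map. -/
lemma exists_traceMap (hlam : Function.Involutive lam)
    (hS : RInv.IsFixedRing S R lam.toRingEquiv) :
    ∃ p : R →ₗ[S] S, ∀ r, algebraMap S R (p r) = r + lam r := by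
  have h : ∀ r : R, ∃ t : S, algebraMap S R t = r + lam r := fun r => exists_trace hlam hS r
  choose f hf using h
  refine ⟨{ toFun := f, map_add' := ?_, map_smul' := ?_ }, hf⟩
  · intro x y
    apply hS.1
    rw [map_add, hf, hf, hf, map_add]
    ring
  · intro s x
    apply hS.1
    rw [RingHom.id_apply, smul_eq_mul, map_mul, hf, hf, map_smul, Algebra.smul_def,
      Algebra.smul_def]
    ring

/-- the twisted map on the base change. -/
lemma congr_apply (z : S' ⊗[S] R) :
    (Algebra.TensorProduct.congr (AlgEquiv.refl : S' ≃ₐ[S'] S') lam) z =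
      (lam.toLinearMap).lTensor S' z := by
  induction z with
  | zero => rw [map_zero, map_zero]
  | add x y hx hy => rw [map_add, map_add, hx, hy]
  | tmul x y => simp

lemma congr_apply' (z : S' ⊗[S] R) :
    (Algebra.TensorProduct.congr (AlgEquiv.refl : S' ≃ₐ[S] S') lam) z =
      (lam.toLinearMap).lTensor S' z := by
  induction z with
  | zero => rw [map_zero, map_zero]
  | add x y hx hy => rw [map_add, map_add, hx, hy]
  | tmul x y => simp

lemma algebraMap_eq_lTensor (s : S') :
    algebraMap S' (S' ⊗[S] R) s = (Algebra.linearMap S R).lTensor S' (s ⊗ₜ 1) := by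
  rw [LinearMap.lTensor_tmul, Algebra.linearMap_apply, map_one,
    Algebra.TensorProduct.algebraMap_apply, Algebra.algebraMap_self, RingHom.id_apply]

lemma exists_tmul_one (z : S' ⊗[S] S) : ∃ s : S', z = s ⊗ₜ 1 := by
  refine ⟨TensorProduct.rid S S' z, ?_⟩
  apply (TensorProduct.rid S S').injective
  rw [TensorProduct.rid_tmul, one_smul]

theorem isFixedRing_of_eq_lTensor (hlam : Function.Involutive lam)
    (hS : RInv.IsFixedRing S R lam.toRingEquiv)
    (h : Module.Flat S S' ∨ IsUnit (2 : S)) (σ : S' ⊗[S] R ≃+* S' ⊗[S] R)
    (hσ : ∀ z, σ z = (lam.toLinearMap).lTensor S' z) :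
    RInv.IsFixedRing S' (S' ⊗[S] R) σ := by
  have hback : ∀ s : S', σ (algebraMap S' (S' ⊗[S] R) s) = algebraMap S' (S' ⊗[S] R) s := by
    intro s
    rw [hσ, algebraMap_eq_lTensor, LinearMap.lTensor_tmul, LinearMap.lTensor_tmul]
    congr 1
    rw [Algebra.linearMap_apply, map_one]
    exact map_one lam
  rcases h with h | h
  · have hex : Function.Exact (Algebra.linearMap S R) (lam.toLinearMap - LinearMap.id : R →ₗ[S] R) := by
      intro r
      have := hS.2 r
      rw [LinearMap.sub_apply, sub_eq_zero]
      exact this
    have hex' := Module.Flat.lTensor_exact S' hex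
    have hinj := Module.Flat.lTensor_preserves_injective_linearMap (M := S')
      (Algebra.linearMap S R) hS.1
    refine ⟨?_, ?_⟩
    · intro a b hab
      rw [algebraMap_eq_lTensor, algebraMap_eq_lTensor] at hab
      have := hinj hab
      have h2 := congrArg (TensorProduct.rid S S') this
      simpa using h2
    · intro z
      constructor
      · intro hz
        rw [hσ] at hz
        have h1 : (LinearMap.lTensor S' (lam.toLinearMap - LinearMap.id : R →ₗ[S] R)) z = 0 := by
          rw [LinearMap.lTensor_sub, LinearMap.sub_apply, hz, LinearMap.lTensor_id,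
            LinearMap.id_apply, sub_self]
        obtain ⟨w, hw⟩ := (hex' z).1 h1
        obtain ⟨s, rfl⟩ := exists_tmul_one w
        exact ⟨s, by rw [algebraMap_eq_lTensor, hw]⟩
      · rintro ⟨s, rfl⟩
        exact hback s
  · obtain ⟨p, hp⟩ := exists_traceMap hlam hS
    obtain ⟨c, hc⟩ := h.exists_left_inv
    have hp1 : ∀ s, p (algebraMap S R s) = 2 * s := by
      intro s
      apply hS.1
      rw [hp, AlgEquiv.commutes, map_mul]
      simp only [map_ofNat]
      ring
    have hleft : ∀ w : S' ⊗[S] S, c • (p.lTensor S' ((Algebra.linearMap S R).lTensor S' w)) =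
        w := by
      intro w
      rw [← LinearMap.lTensor_comp_apply, ← LinearMap.smul_apply, ← LinearMap.lTensor_smul]
      have : c • (p ∘ₗ Algebra.linearMap S R) = LinearMap.id := by
        ext
        simp only [LinearMap.smul_apply, LinearMap.comp_apply, Algebra.linearMap_apply, hp1,
          smul_eq_mul, LinearMap.id_apply, mul_one]
        exact hc
      rw [this, LinearMap.lTensor_id, LinearMap.id_apply]
    refine ⟨?_, ?_⟩
    · intro a b hab
      rw [algebraMap_eq_lTensor, algebraMap_eq_lTensor] at hab
      have := congrArg (fun x => c • (p.lTensor S' x)) hab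
      simp only [hleft] at this
      have h2 := congrArg (TensorProduct.rid S S') this
      simpa using h2
    · intro z
      constructor
      · intro hz
        rw [hσ] at hz
        have h1 : (Algebra.linearMap S R).lTensor S' (p.lTensor S' z) = z + z := by
          rw [← LinearMap.lTensor_comp_apply]
          have : (Algebra.linearMap S R) ∘ₗ p = LinearMap.id + lam.toLinearMap := by
            ext r
            simp only [LinearMap.comp_apply, Algebra.linearMap_apply, hp, LinearMap.add_apply,
              LinearMap.id_apply]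
            rfl
          rw [this, LinearMap.lTensor_add, LinearMap.add_apply, hz, LinearMap.lTensor_id,
            LinearMap.id_apply]
        obtain ⟨s, hs⟩ := exists_tmul_one (c • (p.lTensor S' z))
        refine ⟨s, ?_⟩
        rw [algebraMap_eq_lTensor, ← hs, map_smul, h1, ← two_smul S, smul_smul, hc, one_smul]
      · rintro ⟨s, rfl⟩
        exact hback s

theorem isFixedRing_baseChange (hlam : Function.Involutive lam)
    (hS : RInv.IsFixedRing S R lam.toRingEquiv)
    (h : Module.Flat S S' ∨ IsUnit (2 : S)) :
    RInv.IsFixedRing S' (S' ⊗[S] R)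
      (Algebra.TensorProduct.congr (AlgEquiv.refl : S' ≃ₐ[S'] S') lam).toRingEquiv :=
  isFixedRing_of_eq_lTensor hlam hS h _ congr_apply

theorem isFixedRing_baseChange' (hlam : Function.Involutive lam)
    (hS : RInv.IsFixedRing S R lam.toRingEquiv)
    (h : Module.Flat S S' ∨ IsUnit (2 : S)) :
    RInv.IsFixedRing S' (S' ⊗[S] R)
      (Algebra.TensorProduct.congr (AlgEquiv.refl : S' ≃ₐ[S] S') lam).toRingEquiv :=
  isFixedRing_of_eq_lTensor hlam hS h _ congr_apply'

end

end K867.BaseChange
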