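import Groth.Prelude.Def_W4c2azumayainvolQEt
import Mathlib.RingTheory.Kaehler.Basic
import Mathlib.RingTheory.Unramified.Basic
import Mathlib.RingTheory.Ideal.GoingUp
import Mathlib.RingTheory.LocalRing.Basic
import Mathlib.RingTheory.IntegralClosure.Algebra.Basic

/-!
Basic facts on a commutative ring `R` with an involution `lam` and fixed ring `S`.
-/

namespace K867.Basic

universe u v

variable {S : Type u} {R : Type v} [CommRing S] [CommRing R] [Algebra S R] {lam : R ≃+* R}

lemma exists_trace (hlam : Function.Involutive lam) (hS : RInv.IsFixedRing S R lam) (r : R) :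
    ∃ t : S, algebraMap S R t = r + lam r :=
  (hS.2 (r + lam r)).1 (by rw [map_add, hlam r, add_comm])

lemma exists_norm (hlam : Function.Involutive lam) (hS : RInv.IsFixedRing S R lam) (r : R) :
    ∃ t : S, algebraMap S R t = r * lam r :=
  (hS.2 (r * lam r)).1 (by rw [map_mul, hlam r, mul_comm])

lemma lam_algebraMap (hS : RInv.IsFixedRing S R lam) (s : S) :
    lam (algebraMap S R s) = algebraMap S R s :=
  (hS.2 _).2 ⟨s, rfl⟩

/-- every element satisfies a quadratic equation over `S`. -/
lemma isIntegral (hlam : Function.Involutive lam) (hS : RInv.IsFixedRing S R lam) :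
    Algebra.IsIntegral S R := by
  refine ⟨fun r => ?_⟩
  obtain ⟨t, ht⟩ := exists_trace hlam hS r
  obtain ⟨n, hn⟩ := exists_norm hlam hS r
  have hm : (Polynomial.X ^ 2 - Polynomial.C t * Polynomial.X + Polynomial.C n).Monic := by
    monicity!
  refine ⟨_, hm, ?_⟩
  simp only [Polynomial.eval₂_sub, Polynomial.eval₂_add, Polynomial.eval₂_X_pow,
    Polynomial.eval₂_mul, Polynomial.eval₂_C, Polynomial.eval₂_X]
  rw [ht, hn]
  ring

/-- if `r - lam r` is a unit, then every element is uniquely `a + b r` with `a, b ∈ S`. -/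
lemma exists_coords (hlam : Function.Involutive lam) (hS : RInv.IsFixedRing S R lam) {r : R}
    (hr : IsUnit (r - lam r)) (x : R) :
    ∃ a b : S, x = algebraMap S R a + algebraMap S R b * r := by
  obtain ⟨c, hc⟩ := hr.exists_left_inv
  have hlc : lam c = - c := by
    have h1 : lam c * (lam r - r) = 1 := by
      have := congrArg lam hc
      rw [map_mul, map_sub, hlam r, map_one] at this
      exact this
    calc lam c = lam c * (c * (r - lam r)) := by rw [hc, mul_one]
      _ = - c * (lam c * (lam r - r)) := by ring
      _ = - c := by rw [h1, mul_one]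
  obtain ⟨b, hb⟩ : ∃ b : S, algebraMap S R b = c * (x - lam x) := by
    refine (hS.2 _).1 ?_
    rw [map_mul, map_sub, hlam x, hlc]
    ring
  obtain ⟨a, ha⟩ : ∃ a : S, algebraMap S R a = x - c * (x - lam x) * r := by
    refine (hS.2 _).1 ?_
    rw [map_sub, map_mul, map_mul, map_sub, hlam x, hlc]
    have : x - lam x = c * (r - lam r) * (x - lam x) := by rw [hc, one_mul]
    linear_combination -this
  exact ⟨a, b, by rw [ha, hb]; ring⟩

lemma coords_inj (hS : RInv.IsFixedRing S R lam) {r : R}
    (hr : IsUnit (r - lam r)) {a b : S} (h : algebraMap S R a + algebraMap S R b * r = 0) :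
    a = 0 ∧ b = 0 := by
  have h1 := congrArg lam h
  rw [map_add, map_mul, lam_algebraMap hS, lam_algebraMap hS, map_zero] at h1
  have h2 : algebraMap S R b * (r - lam r) = 0 := by linear_combination h - h1
  have h3 : algebraMap S R b = 0 := by
    rwa [hr.mul_left_eq_zero] at h2
  have hb : b = 0 := hS.1 (by rw [h3, map_zero])
  refine ⟨hS.1 ?_, hb⟩
  rw [map_zero]
  rw [h3, zero_mul, add_zero] at h
  exact h

/-- the linear equivalence `S × S ≃ R` given by the basis `1, r`. -/
noncomputable def coordEquiv (hlam : Function.Involutive lam) (hS : RInv.IsFixedRing S R lam)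
    {r : R} (hr : IsUnit (r - lam r)) : (S × S) ≃ₗ[S] R :=
  LinearEquiv.ofBijective
    ((LinearMap.toSpanSingleton S R 1).coprod (LinearMap.toSpanSingleton S R r)) (by
      constructor
      · rw [← LinearMap.ker_eq_bot, LinearMap.ker_eq_bot']
        rintro ⟨a, b⟩ h
        simp only [LinearMap.coprod_apply, LinearMap.toSpanSingleton_apply, Algebra.smul_def,
          mul_one] at h
        obtain ⟨h1, h2⟩ := coords_inj hS hr h
        rw [h1, h2]; rfl
      · intro x
        obtain ⟨a, b, h⟩ := exists_coords hlam hS hr x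
        refine ⟨(a, b), ?_⟩
        simp only [LinearMap.coprod_apply, LinearMap.toSpanSingleton_apply, Algebra.smul_def,
          mul_one]
        exact h.symm)

/-- S15573 -/
theorem isQuadEtale_of_isUnit (hlam : Function.Involutive lam) (hS : RInv.IsFixedRing S R lam)
    (h : ∃ r : R, IsUnit (r - lam r)) : RInv.IsQuadEtale S R := by
  obtain ⟨r, hr⟩ := h
  let e := coordEquiv hlam hS hr
  have hfree : Module.Free S R := Module.Free.of_equiv e
  have hfin : Module.Finite S R := Module.Finite.equiv e
  refine ⟨hfin, inferInstance, ?_, ?_⟩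
  · refine ⟨?_⟩
    obtain ⟨t, ht⟩ := exists_trace hlam hS r
    obtain ⟨n, hn⟩ := exists_norm hlam hS r
    have hDr : KaehlerDifferential.D S R r = 0 := by
      have h0 : r * r = algebraMap S R t * r - algebraMap S R n := by
        rw [ht, hn]; ring
      have h1 := congrArg (KaehlerDifferential.D S R) h0
      rw [Derivation.leibniz, map_sub, Derivation.leibniz, Derivation.map_algebraMap,
        Derivation.map_algebraMap, smul_zero, add_zero, sub_zero, ht, ← sub_eq_zero, ← add_smul,
        ← sub_smul] at h1
      have h2 : r + r - (r + lam r) = r - lam r := by ring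
      rw [h2] at h1
      exact (hr.smul_eq_zero).1 h1
    have hD : ∀ x : R, KaehlerDifferential.D S R x = 0 := by
      intro x
      obtain ⟨a, b, rfl⟩ := exists_coords hlam hS hr x
      rw [map_add, Derivation.map_algebraMap, Derivation.leibniz, Derivation.map_algebraMap, hDr]
      simp
    rw [← Submodule.subsingleton_iff R, ← subsingleton_iff_bot_eq_top,
      ← KaehlerDifferential.span_range_derivation, eq_comm, Submodule.span_eq_bot]
    rintro _ ⟨x, rfl⟩
    exact hD x
  · intro p
    have : Nontrivial S := ⟨⟨0, 1, fun h => p.isPrime.ne_top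
      ((Ideal.eq_top_iff_one _).2 (h ▸ p.asIdeal.zero_mem))⟩⟩
    rw [← Module.rankAtStalk_eq_of_equiv e, Module.rankAtStalk_prod, Module.rankAtStalk_self]
    rfl

/-- Two primes of `R` over the same prime of `S` are equal or exchanged by `lam`;
this is the containment form. -/
lemma le_or_le_comap (hlam : Function.Involutive lam) (hS : RInv.IsFixedRing S R lam)
    (q q' : Ideal R) [q.IsPrime] [q'.IsPrime]
    (h : q'.comap (algebraMap S R) ≤ q.comap (algebraMap S R)) :
    q' ≤ q ∨ q' ≤ q.comap lam := by
  have h1 : (q' : Set R) ⊆ (q : Set R) ∪ (q.comap lam : Ideal R) := by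
    intro x hx
    obtain ⟨n, hn⟩ := exists_norm hlam hS x
    have hnq : n ∈ q'.comap (algebraMap S R) := by
      rw [Ideal.mem_comap, hn]; exact q'.mul_mem_right _ hx
    have h2 := h hnq
    rw [Ideal.mem_comap, hn] at h2
    rcases (‹q.IsPrime›).mem_or_mem h2 with h3 | h3
    · exact Or.inl h3
    · exact Or.inr h3
  rcases Ideal.subset_union.1 h1 with h2 | h2
  · exact Or.inl h2
  · exact Or.inr h2

lemma eq_of_le (hlam : Function.Involutive lam) (hS : RInv.IsFixedRing S R lam)
    (q q' : Ideal R) [q.IsPrime] [q'.IsPrime]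
    (h : q.comap (algebraMap S R) ≤ q'.comap (algebraMap S R)) (hle : q' ≤ q) : q' = q := by
  refine le_antisymm hle fun x hx => ?_
  by_contra hx'
  obtain ⟨t, ht⟩ := exists_trace hlam hS x
  obtain ⟨n, hn⟩ := exists_norm hlam hS x
  have hnq : algebraMap S R n ∈ q := by rw [hn]; exact q.mul_mem_right _ hx
  have hnq' : x * lam x ∈ q' := by rw [← hn]; exact h hnq
  have h1 : lam x ∈ q' := ((‹q'.IsPrime›).mem_or_mem hnq').resolve_left hx'
  have htq : algebraMap S R t ∈ q := by rw [ht]; exact q.add_mem hx (hle h1)
  have htq' : x + lam x ∈ q' := by rw [← ht]; exact h htq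
  exact hx' ((q'.add_mem_iff_left h1).1 htq')

/-- Two primes of `R` over the same prime of `S` are equal or exchanged by `lam`. -/
lemma eq_or_eq_comap (hlam : Function.Involutive lam) (hS : RInv.IsFixedRing S R lam)
    (q q' : Ideal R) [q.IsPrime] [q'.IsPrime]
    (h : q'.comap (algebraMap S R) = q.comap (algebraMap S R)) :
    q' = q ∨ q' = q.comap lam := by
  have hc : (q.comap lam).comap (algebraMap S R) = q.comap (algebraMap S R) := by
    ext s
    simp only [Ideal.mem_comap, lam_algebraMap hS]
  rcases le_or_le_comap hlam hS q q' h.le with h1 | h1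
  · exact Or.inl (eq_of_le hlam hS q q' h.ge h1)
  · exact Or.inr (eq_of_le hlam hS (q.comap lam) q' (by rw [hc]; exact h.ge) h1)

end K867.Basic
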