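import Groth.Agent.RInv.K867.Loc
import Groth.Agent.RInv.K867.BaseChange
import Mathlib.RingTheory.Localization.BaseChange
import Mathlib.RingTheory.Flat.Localization
import Mathlib.RingTheory.Spectrum.Prime.Topology

/-!
The branch locus of an involution.
-/

namespace K867.Branch

universe u v w

open K867.Basic K867.Loc K867.BaseChange
open scoped TensorProduct

section

variable {S : Type u} {R : Type v} [CommRing S] [CommRing R] [Algebra S R] {lam : R ≃+* R}

/-- `lam` as an `S`-algebra automorphism -/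
noncomputable def lamAlg (hS : RInv.IsFixedRing S R lam) : R ≃ₐ[S] R :=
  AlgEquiv.ofRingEquiv (f := lam) (lam_algebraMap hS)

@[local simp] lemma lamAlg_apply (hS : RInv.IsFixedRing S R lam) (r : R) :
    lamAlg hS r = lam r := rfl

lemma lamAlg_toRingEquiv (hS : RInv.IsFixedRing S R lam) :
    (lamAlg hS).toRingEquiv = lam := by
  ext r; rfl

/-- the base-changed involution. -/
noncomputable def bcLam (S' : Type w) [CommRing S'] [Algebra S S']
    (hS : RInv.IsFixedRing S R lam) : S' ⊗[S] R ≃+* S' ⊗[S] R :=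
  (Algebra.TensorProduct.congr (AlgEquiv.refl : S' ≃ₐ[S'] S') (lamAlg hS)).toRingEquiv

lemma bcLam_tmul {S' : Type w} [CommRing S'] [Algebra S S']
    (hS : RInv.IsFixedRing S R lam) (a : S') (r : R) :
    bcLam S' hS (a ⊗ₜ r) = a ⊗ₜ lam r := by
  change (Algebra.TensorProduct.congr (AlgEquiv.refl : S' ≃ₐ[S'] S') (lamAlg hS)) (a ⊗ₜ r) = _
  rw [Algebra.TensorProduct.congr_apply, Algebra.TensorProduct.map_tmul]
  rfl

lemma bcLam_invol (S' : Type w) [CommRing S'] [Algebra S S'] (hlam : Function.Involutive lam)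
    (hS : RInv.IsFixedRing S R lam) : Function.Involutive (bcLam S' hS) := by
  intro z
  induction z with
  | zero => rw [map_zero, map_zero]
  | add x y hx hy => rw [map_add, map_add, hx, hy]
  | tmul x y => rw [bcLam_tmul, bcLam_tmul, hlam]

lemma bcLam_fixed (S' : Type w) [CommRing S'] [Algebra S S'] [Module.Flat S S']
    (hlam : Function.Involutive lam)
    (hS : RInv.IsFixedRing S R lam) : RInv.IsFixedRing S' (S' ⊗[S] R) (bcLam S' hS) :=
  isFixedRing_baseChange (lam := lamAlg hS) hlam
    (by rw [lamAlg_toRingEquiv]; exact hS) (Or.inl inferInstance)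

lemma isQuadEtale_of_isUnit_tmul (S' : Type w) [CommRing S'] [Algebra S S'] [Module.Flat S S']
    (hlam : Function.Involutive lam)
    (hS : RInv.IsFixedRing S R lam) (r : R) (h : IsUnit ((1 : S') ⊗ₜ[S] (r - lam r))) :
    RInv.IsQuadEtale S' (S' ⊗[S] R) := by
  refine isQuadEtale_of_isUnit (bcLam_invol S' hlam hS) (bcLam_fixed S' hlam hS)
    ⟨1 ⊗ₜ r, ?_⟩
  rw [bcLam_tmul, ← TensorProduct.tmul_sub]
  exact h

lemma exists_mul_eq_tmul (T : Submonoid S) (z : Localization T ⊗[S] R) :
    ∃ t : T, ∃ r : R, (algebraMap S (Localization T) t ⊗ₜ[S] (1 : R)) * z = 1 ⊗ₜ r := by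
  induction z with
  | zero => exact ⟨1, 0, by rw [mul_zero, TensorProduct.tmul_zero]⟩
  | add x y hx hy =>
    obtain ⟨t, r, h⟩ := hx
    obtain ⟨t', r', h'⟩ := hy
    refine ⟨t * t', (t' : S) • r + (t : S) • r', ?_⟩
    have e : (algebraMap S (Localization T) ((t * t' : T) : S) ⊗ₜ[S] (1 : R)) =
      (algebraMap S (Localization T) t ⊗ₜ[S] (1 : R)) *
        (algebraMap S (Localization T) t' ⊗ₜ[S] (1 : R)) := by
      rw [Algebra.TensorProduct.tmul_mul_tmul, one_mul, ← map_mul]
      rfl
    have e1 : ∀ (s : S) (a : R), (algebraMap S (Localization T) s ⊗ₜ[S] (1 : R)) * (1 ⊗ₜ a) =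
        1 ⊗ₜ (s • a) := by
      intro s a
      rw [Algebra.TensorProduct.tmul_mul_tmul, one_mul, mul_one,
        Algebra.algebraMap_eq_smul_one, TensorProduct.smul_tmul]
    rw [e, mul_add, TensorProduct.tmul_add, ← e1, ← e1, ← h, ← h']
    ring
  | tmul a r =>
    obtain ⟨x, t, rfl⟩ := IsLocalization.exists_mk'_eq T a
    refine ⟨t, x • r, ?_⟩
    rw [Algebra.TensorProduct.tmul_mul_tmul, one_mul, IsLocalization.mk'_spec',
      Algebra.algebraMap_eq_smul_one, TensorProduct.smul_tmul]

attribute [local instance] Algebra.TensorProduct.rightAlgebra in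
lemma isUnit_tmul_iff (T : Submonoid S) (x : R) :
    IsUnit ((1 : Localization T) ⊗ₜ[S] x) ↔ ∃ t ∈ T, x ∣ algebraMap S R t := by
  have h := IsLocalization.algebraMap_isUnit_iff (Algebra.algebraMapSubmonoid R T)
    (S := Localization T ⊗[S] R) (x := x)
  have h2 : algebraMap R (Localization T ⊗[S] R) x = (1 : Localization T) ⊗ₜ[S] x := rfl
  rw [h2] at h
  rw [h]
  constructor
  · rintro ⟨m, ⟨t, ht, rfl⟩, hm⟩
    exact ⟨t, ht, hm⟩
  · rintro ⟨t, ht, hx⟩
    exact ⟨_, ⟨t, ht, rfl⟩, hx⟩

/-- first form of the criterion. -/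
lemma isQuadEtale_atPrime_iff_dvd (hlam : Function.Involutive lam)
    (hS : RInv.IsFixedRing S R lam) (p : Ideal S) [p.IsPrime] :
    RInv.IsQuadEtale (Localization.AtPrime p) (Localization.AtPrime p ⊗[S] R) ↔
      ∃ r : R, ∃ t ∉ p, r - lam r ∣ algebraMap S R t := by
  have hfl : Module.Flat S (Localization.AtPrime p) :=
    IsLocalization.flat (Localization.AtPrime p) p.primeCompl
  constructor
  · intro h
    obtain ⟨z, hz⟩ := exists_isUnit_of_isQuadEtale (bcLam_invol (Localization.AtPrime p) hlam hS)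
      (bcLam_fixed (Localization.AtPrime p) hlam hS) h
    obtain ⟨t, r, htr⟩ := exists_mul_eq_tmul p.primeCompl z
    refine ⟨r, ?_⟩
    have hu : IsUnit (algebraMap S (Localization.AtPrime p) t ⊗ₜ[S] (1 : R)) := by
      have : IsUnit (algebraMap S (Localization.AtPrime p) t) :=
        IsLocalization.map_units _ t
      exact this.map (algebraMap (Localization.AtPrime p) (Localization.AtPrime p ⊗[S] R))
    have hu2 := hu.mul hz
    have e : (algebraMap S (Localization.AtPrime p) t ⊗ₜ[S] (1 : R)) *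
        (z - bcLam (Localization.AtPrime p) hS z) =
        (1 : Localization.AtPrime p) ⊗ₜ[S] (r - lam r) := by
      have e1 := congrArg (bcLam (Localization.AtPrime p) hS) htr
      rw [map_mul, bcLam_tmul, bcLam_tmul, map_one] at e1
      rw [mul_sub, TensorProduct.tmul_sub, ← e1, ← htr]
    rw [e] at hu2
    exact (isUnit_tmul_iff p.primeCompl _).1 hu2
  · rintro ⟨r, t, ht, hr⟩
    refine isQuadEtale_of_isUnit_tmul _ hlam hS r ?_
    exact (isUnit_tmul_iff p.primeCompl _).2 ⟨t, ht, hr⟩

/-- second form of the criterion. -/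
lemma dvd_iff_forall_notMem (hlam : Function.Involutive lam)
    (hS : RInv.IsFixedRing S R lam) (p : Ideal S) [p.IsPrime] (x : R) :
    (∃ t ∉ p, x ∣ algebraMap S R t) ↔
      ∀ q : Ideal R, q.IsPrime → q.comap (algebraMap S R) = p → x ∉ q := by
  have := isIntegral hlam hS
  constructor
  · rintro ⟨t, ht, hx⟩ q hq hqp hxq
    apply ht
    rw [← hqp, Ideal.mem_comap]
    exact Ideal.mem_of_dvd q hx hxq
  · intro h
    by_contra hcon
    push Not at hcon
    have hdis : Disjoint ((Ideal.span {x} : Ideal R) : Set R)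
        (Algebra.algebraMapSubmonoid R p.primeCompl : Set R) := by
      rw [Set.disjoint_left]
      rintro y hy ⟨t, ht, rfl⟩
      rw [SetLike.mem_coe, Ideal.mem_span_singleton] at hy
      exact hcon t ht hy
    obtain ⟨q, hq, hle, hdis'⟩ := Ideal.exists_le_prime_disjoint _ _ hdis
    have hqp : q.comap (algebraMap S R) ≤ p := by
      intro s hs
      by_contra hsp
      exact Set.disjoint_left.1 hdis' hs ⟨s, hsp, rfl⟩
    obtain ⟨q', hq'le, hq', hq'p⟩ := Ideal.exists_ideal_over_prime_of_isIntegral p q hqp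
    exact h q' hq' hq'p (hq'le (hle (Ideal.mem_span_singleton_self x)))

lemma isQuadEtale_atPrime_iff (hlam : Function.Involutive lam)
    (hS : RInv.IsFixedRing S R lam) (p : Ideal S) [p.IsPrime] :
    RInv.IsQuadEtale (Localization.AtPrime p) (Localization.AtPrime p ⊗[S] R) ↔
      ∃ r : R, ∀ q : Ideal R, q.IsPrime → q.comap (algebraMap S R) = p → r - lam r ∉ q := by
  rw [isQuadEtale_atPrime_iff_dvd hlam hS]
  exact exists_congr fun r => dvd_iff_forall_notMem hlam hS p (r - lam r)

/-- S15575 -/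
theorem exists_away (hlam : Function.Involutive lam)
    (hS : RInv.IsFixedRing S R lam) (p : Ideal S) [p.IsPrime]
    (h : RInv.IsQuadEtale (Localization.AtPrime p) (Localization.AtPrime p ⊗[S] R)) :
    ∃ s : S, s ∉ p ∧ RInv.IsQuadEtale (Localization.Away s) (Localization.Away s ⊗[S] R) := by
  obtain ⟨r, t, ht, hr⟩ := (isQuadEtale_atPrime_iff_dvd hlam hS p).1 h
  refine ⟨t, ht, ?_⟩
  have hfl : Module.Flat S (Localization.Away t) :=
    IsLocalization.flat (Localization.Away t) (Submonoid.powers t)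
  refine isQuadEtale_of_isUnit_tmul _ hlam hS r ?_
  exact (isUnit_tmul_iff (Submonoid.powers t) _).2 ⟨t, Submonoid.mem_powers t, hr⟩

/-- S15587 -/
theorem not_isQuadEtale_iff (hlam : Function.Involutive lam)
    (hS : RInv.IsFixedRing S R lam) (p : Ideal S) [p.IsPrime] :
    ¬ RInv.IsQuadEtale (Localization.AtPrime p) (Localization.AtPrime p ⊗[S] R) ↔
      ∃ q : Ideal R, q.IsPrime ∧ q.comap (algebraMap S R) = p ∧
        (∀ q' : Ideal R, q'.IsPrime → q'.comap (algebraMap S R) = p → q' = q) ∧
        ∀ r : R, lam r - r ∈ q := by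
  have := isIntegral hlam hS
  rw [isQuadEtale_atPrime_iff hlam hS]
  push Not
  constructor
  · intro h
    obtain ⟨q, hq, hqp, -⟩ := h 0
    have hlq : q.comap lam = q := by
      by_contra hne
      have hnle : ¬ q ≤ q.comap lam := by
        intro hle
        have hpr : (q.comap lam).IsPrime := Ideal.IsPrime.comap lam
        refine hne (eq_of_le hlam hS (q.comap lam) q ?_ hle).symm
        intro s hs
        rwa [Ideal.mem_comap, Ideal.mem_comap, lam_algebraMap hS] at hs
      obtain ⟨x, hx, hx'⟩ := Set.not_subset.1 hnle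
      obtain ⟨q', hq', hq'p, hmem⟩ := h x
      have hlx : lam x ∉ q := hx'
      rcases eq_or_eq_comap hlam hS q q' (by rw [hqp, hq'p]) with h1 | h1
      · rw [h1] at hmem
        exact hlx (by simpa using q.sub_mem hx hmem)
      · rw [h1, Ideal.mem_comap, map_sub, hlam x] at hmem
        exact hlx (by simpa using q.add_mem hmem hx)
    have huniq : ∀ q' : Ideal R, q'.IsPrime → q'.comap (algebraMap S R) = p → q' = q := by
      intro q' hq' hq'p
      rcases eq_or_eq_comap hlam hS q q' (by rw [hqp, hq'p]) with h1 | h1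
      · exact h1
      · rw [h1, hlq]
    refine ⟨q, hq, hqp, huniq, ?_⟩
    intro r
    obtain ⟨q', hq', hq'p, hmem⟩ := h r
    rw [huniq q' hq' hq'p] at hmem
    rwa [← neg_mem_iff, neg_sub]
  · rintro ⟨q, hq, hqp, huniq, hmem⟩ r
    refine ⟨q, hq, hqp, ?_⟩
    rw [← neg_mem_iff, neg_sub]
    exact hmem r

end

section locus

variable {S : Type u} {R : Type v} [CommRing S] [CommRing R] [Algebra S R] {lam : R ≃+* R}

/-- the branch locus is closed -/
lemma isClosed_branch (hlam : Function.Involutive lam) (hS : RInv.IsFixedRing S R lam)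
    (W : Set (PrimeSpectrum S))
    (hW : W = {p : PrimeSpectrum S | ¬ RInv.IsQuadEtale (Localization.AtPrime p.asIdeal)
      (Localization.AtPrime p.asIdeal ⊗[S] R)}) : IsClosed W := by
  rw [← isOpen_compl_iff, isOpen_iff_forall_mem_open]
  intro p hp
  rw [hW, Set.mem_compl_iff, Set.mem_ofPred_eq, not_not] at hp
  obtain ⟨r, t, ht, hr⟩ := (isQuadEtale_atPrime_iff_dvd hlam hS p.asIdeal).1 hp
  refine ⟨PrimeSpectrum.basicOpen t, ?_, (PrimeSpectrum.basicOpen t).2, ht⟩
  intro p' hp'
  rw [hW, Set.mem_compl_iff, Set.mem_ofPred_eq, not_not]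
  exact (isQuadEtale_atPrime_iff_dvd hlam hS p'.asIdeal).2 ⟨r, t, hp', hr⟩

lemma mem_branch_of_le (hlam : Function.Involutive lam) (hS : RInv.IsFixedRing S R lam)
    (W : Set (PrimeSpectrum S))
    (hW : W = {p : PrimeSpectrum S | ¬ RInv.IsQuadEtale (Localization.AtPrime p.asIdeal)
      (Localization.AtPrime p.asIdeal ⊗[S] R)}) (p : PrimeSpectrum S)
    (hp : PrimeSpectrum.vanishingIdeal W ≤ p.asIdeal) : p ∈ W := by
  have h := isClosed_branch hlam hS W hW
  rw [← h.closure_eq, ← PrimeSpectrum.zeroLocus_vanishingIdeal_eq_closure]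
  exact hp

/-- the key property of primes above the branch locus -/
lemma branch_props (hlam : Function.Involutive lam) (hS : RInv.IsFixedRing S R lam)
    (W : Set (PrimeSpectrum S))
    (hW : W = {p : PrimeSpectrum S | ¬ RInv.IsQuadEtale (Localization.AtPrime p.asIdeal)
      (Localization.AtPrime p.asIdeal ⊗[S] R)}) (p : PrimeSpectrum S) (hp : p ∈ W) :
    ∃ q : Ideal R, q.IsPrime ∧ q.comap (algebraMap S R) = p.asIdeal ∧
        (∀ q' : Ideal R, q'.IsPrime → q'.comap (algebraMap S R) = p.asIdeal → q' = q) ∧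
        ∀ r : R, lam r - r ∈ q := by
  rw [hW, Set.mem_ofPred_eq] at hp
  exact (not_isQuadEtale_iff hlam hS p.asIdeal).1 hp

/-- S15588 -/
theorem sub_mem_radical (hlam : Function.Involutive lam) (hS : RInv.IsFixedRing S R lam)
    (W : Set (PrimeSpectrum S))
    (hW : W = {p : PrimeSpectrum S | ¬ RInv.IsQuadEtale (Localization.AtPrime p.asIdeal)
      (Localization.AtPrime p.asIdeal ⊗[S] R)}) (r : R) :
    lam r - r ∈ ((PrimeSpectrum.vanishingIdeal W).map (algebraMap S R)).radical := by
  rw [Ideal.radical_eq_sInf, Ideal.mem_sInf]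
  rintro q ⟨hq, hqp⟩
  have hpr : (q.comap (algebraMap S R)).IsPrime := Ideal.IsPrime.comap _
  have hp : (⟨q.comap (algebraMap S R), hpr⟩ : PrimeSpectrum S) ∈ W :=
    mem_branch_of_le hlam hS W hW _ (Ideal.map_le_iff_le_comap.1 hq)
  obtain ⟨q₀, -, -, h1, h2⟩ := branch_props hlam hS W hW _ hp
  rw [h1 q hqp rfl]
  exact h2 r

/-- S15589 -/
theorem isHomeomorph_and_bijective (hlam : Function.Involutive lam)
    (hS : RInv.IsFixedRing S R lam) (W : Set (PrimeSpectrum S))
    (hW : W = {p : PrimeSpectrum S | ¬ RInv.IsQuadEtale (Localization.AtPrime p.asIdeal)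
      (Localization.AtPrime p.asIdeal ⊗[S] R)})
    (J : Ideal R) (hJ : J = ((PrimeSpectrum.vanishingIdeal W).map (algebraMap S R)).radical)
    (hIJ : PrimeSpectrum.vanishingIdeal W ≤ J.comap (algebraMap S R)) :
    IsHomeomorph (PrimeSpectrum.comap (Ideal.quotientMap J (algebraMap S R) hIJ)) ∧
      (IsUnit (2 : S) → Function.Bijective (Ideal.quotientMap J (algebraMap S R) hIJ)) := by
  have hint := isIntegral hlam hS
  set φ := Ideal.quotientMap J (algebraMap S R) hIJ with hφ
  have hφmk : ∀ s : S, φ (Ideal.Quotient.mk _ s) = Ideal.Quotient.mk J (algebraMap S R s) := by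
    intro s; rw [hφ, Ideal.quotientMap_mk]
  -- primes above `W` contain `J`
  have hle : ∀ q : Ideal R, q.IsPrime →
      PrimeSpectrum.vanishingIdeal W ≤ q.comap (algebraMap S R) → J ≤ q := by
    intro q hq h
    rw [hJ, hq.radical_le_iff, Ideal.map_le_iff_le_comap]
    exact h
  have hφint : φ.IsIntegral := by
    have h1 : (φ.comp (Ideal.Quotient.mk (PrimeSpectrum.vanishingIdeal W))).IsIntegral := by
      have h2 : φ.comp (Ideal.Quotient.mk (PrimeSpectrum.vanishingIdeal W)) =
          (Ideal.Quotient.mk J).comp (algebraMap S R) := by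
        ext s; exact hφmk s
      rw [h2]
      exact RingHom.IsIntegral.trans _ _ (algebraMap_isIntegral_iff.2 hint)
        (RingHom.isIntegral_of_surjective _ Ideal.Quotient.mk_surjective)
    exact RingHom.IsIntegral.tower_top _ _ h1
  constructor
  · rw [isHomeomorph_iff_continuous_isClosedMap_bijective]
    refine ⟨(PrimeSpectrum.continuous_comap _),
      PrimeSpectrum.isClosedMap_comap_of_isIntegral φ hφint, ?_, ?_⟩
    · intro Q Q' hQQ
      have h0 : Q.asIdeal.comap φ = Q'.asIdeal.comap φ := congrArg PrimeSpectrum.asIdeal hQQ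
      set q := Q.asIdeal.comap (Ideal.Quotient.mk J) with hq
      set q' := Q'.asIdeal.comap (Ideal.Quotient.mk J) with hq'
      have hqp : q.IsPrime := Ideal.IsPrime.comap _
      have hqp' : q'.IsPrime := Ideal.IsPrime.comap _
      have hpp : (q.comap (algebraMap S R)).IsPrime := Ideal.IsPrime.comap _
      have hJq : J ≤ q := by
        intro x hx
        rw [hq, Ideal.mem_comap, Ideal.Quotient.eq_zero_iff_mem.2 hx]
        exact Ideal.zero_mem _
      have hp : (⟨q.comap (algebraMap S R), hpp⟩ : PrimeSpectrum S) ∈ W :=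
        mem_branch_of_le hlam hS W hW _ (hIJ.trans (Ideal.comap_mono hJq))
      obtain ⟨q₀, -, -, h1, -⟩ := branch_props hlam hS W hW _ hp
      have hqq : q'.comap (algebraMap S R) = q.comap (algebraMap S R) := by
        ext s
        have := congrArg (fun I => Ideal.Quotient.mk (PrimeSpectrum.vanishingIdeal W) s ∈ I) h0
        simp only [Ideal.mem_comap, hφmk] at this
        rw [hq, hq', Ideal.mem_comap, Ideal.mem_comap, Ideal.mem_comap, Ideal.mem_comap]
        exact iff_of_eq this.symm
      have h3 : q = q' := by rw [h1 q hqp rfl, h1 q' hqp' hqq]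
      ext x
      obtain ⟨x, rfl⟩ := Ideal.Quotient.mk_surjective x
      change x ∈ q ↔ x ∈ q'
      rw [h3]
    · intro P
      have hpp : (P.asIdeal.comap
        (Ideal.Quotient.mk (PrimeSpectrum.vanishingIdeal W))).IsPrime := Ideal.IsPrime.comap _
      have hIp : PrimeSpectrum.vanishingIdeal W ≤ P.asIdeal.comap
          (Ideal.Quotient.mk (PrimeSpectrum.vanishingIdeal W)) := by
        intro x hx
        rw [Ideal.mem_comap, Ideal.Quotient.eq_zero_iff_mem.2 hx]
        exact Ideal.zero_mem _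
      have hp : (⟨_, hpp⟩ : PrimeSpectrum S) ∈ W := mem_branch_of_le hlam hS W hW _ hIp
      obtain ⟨q, hqp, hqc, -, -⟩ := branch_props hlam hS W hW _ hp
      have hJq : J ≤ q := hle q hqp (by rw [hqc]; exact hIp)
      have hQ : (q.map (Ideal.Quotient.mk J)).IsPrime :=
        Ideal.map_isPrime_of_surjective Ideal.Quotient.mk_surjective
          (by rw [Ideal.mk_ker]; exact hJq)
      refine ⟨⟨_, hQ⟩, ?_⟩
      ext x
      obtain ⟨s, rfl⟩ := Ideal.Quotient.mk_surjective x
      change φ (Ideal.Quotient.mk _ s) ∈ q.map (Ideal.Quotient.mk J) ↔ _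
      rw [hφmk, Ideal.mem_quotient_iff_mem hJq, ← Ideal.mem_comap, hqc]
      rfl
  · intro h2
    constructor
    · rw [injective_iff_map_eq_zero]
      intro x hx
      obtain ⟨s, rfl⟩ := Ideal.Quotient.mk_surjective x
      rw [hφmk, Ideal.Quotient.eq_zero_iff_mem] at hx
      rw [Ideal.Quotient.eq_zero_iff_mem, PrimeSpectrum.mem_vanishingIdeal]
      intro p hp
      obtain ⟨q, hqp, hqc, -, -⟩ := branch_props hlam hS W hW _ hp
      have hIp : PrimeSpectrum.vanishingIdeal W ≤ p.asIdeal := fun y hy =>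
        (PrimeSpectrum.mem_vanishingIdeal _ _).1 hy p hp
      have hJq : J ≤ q := hle q hqp (by rw [hqc]; exact hIp)
      rw [← hqc, Ideal.mem_comap]
      exact hJq hx
    · intro y
      obtain ⟨r, rfl⟩ := Ideal.Quotient.mk_surjective y
      obtain ⟨t, ht⟩ := exists_trace hlam hS r
      obtain ⟨c, hc⟩ := h2.exists_left_inv
      refine ⟨Ideal.Quotient.mk _ (c * t), ?_⟩
      rw [hφmk, Ideal.Quotient.mk_eq_mk_iff_sub_mem]
      have h3 := sub_mem_radical hlam hS W hW r
      rw [← hJ] at h3
      have hc' : algebraMap S R c * 2 = 1 := by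
        rw [← map_one (algebraMap S R), ← hc, map_mul, map_ofNat]
      have h4 : algebraMap S R (c * t) - r = algebraMap S R c * (lam r - r) := by
        rw [map_mul, ht]
        linear_combination r * hc'
      rw [h4]
      exact J.mul_mem_left _ h3

end locus

end K867.Branch
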