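import Mathlib.LinearAlgebra.Matrix.SchurComplement
import Mathlib.LinearAlgebra.Matrix.Transvection
import Mathlib.Data.Matrix.Block

/-!
Congruence of matrices over a ring with involution.
-/

namespace K867.Cong

universe v

open Matrix

variable {A : Type v} [CommRing A] (lam : A ≃+* A)

/-- the conjugate transpose. -/
def adj {m n : Type*} (v : Matrix m n A) : Matrix n m A := (v.map lam).transpose

/-- congruence. -/
def Cong {ι : Type*} [Fintype ι] (h h' : Matrix ι ι A) : Prop :=
  ∃ (v w : Matrix ι ι A) , (∀ x : Matrix ι ι A, v * (w * x) = x ∧ w * (v * x) = x) ∧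
    adj lam v * h * v = h'

section adj

variable {l m n : Type*}

lemma adj_apply (v : Matrix m n A) (i : n) (j : m) : adj lam v i j = lam (v j i) := rfl

lemma adj_mul [Fintype m] (v : Matrix l m A) (w : Matrix m n A) :
    adj lam (v * w) = adj lam w * adj lam v := by
  ext i j
  simp only [adj_apply, Matrix.mul_apply, map_sum, map_mul]
  exact Finset.sum_congr rfl fun _ _ => mul_comm _ _

lemma adj_one [DecidableEq n] : adj lam (1 : Matrix n n A) = 1 := by
  ext i j
  rw [adj_apply, Matrix.one_apply, Matrix.one_apply]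
  split_ifs with h1 h2 h2
  · exact map_one lam
  · exact absurd h1.symm h2
  · exact absurd h2.symm h1
  · exact map_zero lam

lemma adj_adj (hlam : Function.Involutive lam) (v : Matrix m n A) :
    adj lam (adj lam v) = v := by
  ext i j
  rw [adj_apply, adj_apply, hlam]

lemma adj_neg (v : Matrix m n A) : adj lam (-v) = - adj lam v := by
  ext i j
  rw [adj_apply, Matrix.neg_apply, Matrix.neg_apply, adj_apply, map_neg]

lemma adj_zero : adj lam (0 : Matrix m n A) = 0 := by
  ext i j
  rw [adj_apply, Matrix.zero_apply, Matrix.zero_apply, map_zero]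

lemma adj_smul (a : A) (v : Matrix m n A) : adj lam (a • v) = lam a • adj lam v := by
  ext i j
  rw [adj_apply, Matrix.smul_apply, Matrix.smul_apply, adj_apply, smul_eq_mul, smul_eq_mul,
    map_mul]

lemma adj_submatrix {m' n' : Type*} (v : Matrix m n A) (f : m' → m) (g : n' → n) :
    adj lam (v.submatrix f g) = (adj lam v).submatrix g f := rfl

lemma adj_fromBlocks {o : Type*} (a : Matrix n l A) (b : Matrix n m A) (c : Matrix o l A)
    (d : Matrix o m A) :
    adj lam (fromBlocks a b c d) = fromBlocks (adj lam a) (adj lam c) (adj lam b) (adj lam d) := by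
  rw [adj, fromBlocks_map, fromBlocks_transpose]
  rfl

end adj

section cong

variable {ι κ : Type*} [Fintype ι] [Fintype κ] [DecidableEq ι] [DecidableEq κ]

lemma cong_iff (h h' : Matrix ι ι A) : Cong lam h h' ↔
    ∃ v : Matrix ι ι A, IsUnit v ∧ (v.map lam).transpose * h * v = h' := by
  constructor
  · rintro ⟨v, w, h1, h2⟩
    refine ⟨v, isUnit_iff_exists.2 ⟨w, ?_, ?_⟩, h2⟩
    · have := (h1 1).1; rwa [Matrix.mul_one] at this
    · have := (h1 1).2; rwa [Matrix.mul_one] at this
  · rintro ⟨v, hv, h2⟩
    obtain ⟨w, h3, h4⟩ := isUnit_iff_exists.1 hv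
    refine ⟨v, w, fun x => ⟨?_, ?_⟩, h2⟩
    · rw [← Matrix.mul_assoc, h3, Matrix.one_mul]
    · rw [← Matrix.mul_assoc, h4, Matrix.one_mul]

lemma cong_intro {v w : Matrix ι ι A} (h1 : v * w = 1) {h h' : Matrix ι ι A}
    (h2 : adj lam v * h * v = h') : Cong lam h h' := by
  rw [cong_iff]
  exact ⟨v, isUnit_iff_exists.2 ⟨w, h1, mul_eq_one_comm.1 h1⟩, h2⟩

variable {lam}

lemma Cong.exists_inv {h h' : Matrix ι ι A} (H : Cong lam h h') :
    ∃ v w : Matrix ι ι A, v * w = 1 ∧ w * v = 1 ∧ adj lam v * h * v = h' := by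
  obtain ⟨v, hv, h2⟩ := (cong_iff lam h h').1 H
  obtain ⟨w, h3, h4⟩ := isUnit_iff_exists.1 hv
  exact ⟨v, w, h3, h4, h2⟩

variable (lam) in
lemma Cong.refl (h : Matrix ι ι A) : Cong lam h h :=
  cong_intro lam (v := 1) (w := 1) (Matrix.one_mul _) (by
    rw [adj_one, Matrix.one_mul, Matrix.mul_one])

lemma Cong.trans {h h' h'' : Matrix ι ι A} (H : Cong lam h h') (H' : Cong lam h' h'') :
    Cong lam h h'' := by
  obtain ⟨v, w, h1, -, h2⟩ := H.exists_inv
  obtain ⟨v', w', h1', -, h2'⟩ := H'.exists_inv
  refine cong_intro lam (v := v * v') (w := w' * w) ?_ ?_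
  · rw [Matrix.mul_assoc, ← Matrix.mul_assoc v' w' w, h1', Matrix.one_mul, h1]
  · rw [adj_mul, ← h2', ← h2]
    simp only [Matrix.mul_assoc]

lemma Cong.submatrix {h h' : Matrix ι ι A} (H : Cong lam h h') (e : κ ≃ ι) :
    Cong lam (h.submatrix e e) (h'.submatrix e e) := by
  obtain ⟨v, w, h1, -, h2⟩ := H.exists_inv
  refine cong_intro lam (v := v.submatrix e e) (w := w.submatrix e e) ?_ ?_
  · rw [Matrix.submatrix_mul_equiv, h1, Matrix.submatrix_one_equiv]
  · rw [adj_submatrix, Matrix.submatrix_mul_equiv, Matrix.submatrix_mul_equiv, h2]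

lemma Cong.of_submatrix {h h' : Matrix ι ι A} (e : κ ≃ ι)
    (H : Cong lam (h.submatrix e e) (h'.submatrix e e)) : Cong lam h h' := by
  have := H.submatrix e.symm
  simpa using this

/-- `h` and `h'` reindexed by a permutation are congruent. -/
lemma cong_perm (h : Matrix ι ι A) (e : ι ≃ ι) : Cong lam h (h.submatrix e e) := by
  refine cong_intro lam (v := (1 : Matrix ι ι A).submatrix id e)
    (w := (1 : Matrix ι ι A).submatrix e id) ?_ ?_
  · ext i j
    simp only [Matrix.mul_apply, Matrix.submatrix_apply, Matrix.one_apply, id_eq]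
    rw [Finset.sum_eq_single (e.symm i)]
    · simp [eq_comm]
    · intro b _ hb
      have : i ≠ e b := fun h => hb (by rw [h, e.symm_apply_apply])
      simp [this]
    · intro h; exact absurd (Finset.mem_univ _) h
  · have h1 : adj lam ((1 : Matrix ι ι A).submatrix id e) = (1 : Matrix ι ι A).submatrix e id := by
      rw [adj_submatrix, adj_one]
    rw [h1]
    ext i j
    simp only [Matrix.mul_apply, Matrix.submatrix_apply, Matrix.one_apply, id_eq]
    rw [Finset.sum_eq_single (e j)]
    · simp
    · intro b _ hb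
      simp [hb]
    · intro h; exact absurd (Finset.mem_univ _) h

lemma cong_blocks {h₁ h₁' : Matrix ι ι A} {h₂ h₂' : Matrix κ κ A} (H₁ : Cong lam h₁ h₁')
    (H₂ : Cong lam h₂ h₂') :
    Cong lam (fromBlocks h₁ 0 0 h₂) (fromBlocks h₁' 0 0 h₂') := by
  obtain ⟨v, w, h1, -, h2⟩ := H₁.exists_inv
  obtain ⟨v', w', h1', -, h2'⟩ := H₂.exists_inv
  refine cong_intro lam (v := fromBlocks v 0 0 v') (w := fromBlocks w 0 0 w') ?_ ?_
  · rw [fromBlocks_multiply]
    simp only [Matrix.mul_zero, Matrix.zero_mul, add_zero, zero_add, h1, h1', fromBlocks_one]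
  · rw [adj_fromBlocks, fromBlocks_multiply, fromBlocks_multiply]
    simp only [Matrix.mul_zero, Matrix.zero_mul, add_zero, zero_add, adj_zero, h2, h2']

/-- hermitian matrices. -/
def Herm (lam : A ≃+* A) (ε : A) {m : Type*} (h : Matrix m m A) : Prop := ε • adj lam h = h

lemma Herm.apply {ε : A} {m : Type*} {h : Matrix m m A} (H : Herm lam ε h) (i j : m) :
    ε * lam (h j i) = h i j := by
  have := congrFun (congrFun H i) j
  exact this

lemma Herm.cong (hlam : Function.Involutive lam) {ε : A} {h h' : Matrix ι ι A}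
    (H : Herm lam ε h) (C : Cong lam h h') : Herm lam ε h' := by
  obtain ⟨v, w, h1, -, rfl⟩ := C.exists_inv
  rw [Herm, adj_mul, adj_mul, adj_adj lam hlam, ← Matrix.mul_smul, ← Matrix.smul_mul, H,
    Matrix.mul_assoc]

lemma Herm.submatrix {ε : A} {m n : Type*} {h : Matrix m m A} (H : Herm lam ε h) (f : n → m) :
    Herm lam ε (h.submatrix f f) := by
  ext i j
  exact H.apply (f i) (f j)

lemma Cong.isUnit {h h' : Matrix ι ι A} (C : Cong lam h h') (H : IsUnit h) : IsUnit h' := by
  obtain ⟨v, w, h1, h1', rfl⟩ := C.exists_inv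
  have h2 : IsUnit v := isUnit_iff_exists.2 ⟨w, h1, h1'⟩
  have h3 : IsUnit (adj lam v) := by
    refine isUnit_iff_exists.2 ⟨adj lam w, ?_, ?_⟩
    · rw [← adj_mul, h1', adj_one]
    · rw [← adj_mul, h1, adj_one]
  exact (h3.mul H).mul h2

/-- splitting off an invertible block -/
lemma cong_split {ε : A} (hε : ε * ε = 1) {a : Matrix ι ι A} {b : Matrix ι κ A}
    {c : Matrix κ ι A} {d : Matrix κ κ A} {w : Matrix ι ι A} (haw : a * w = 1)
    (ha : ε • adj lam a = a) (hb : ε • adj lam b = c) :
    Cong lam (fromBlocks a b c d) (fromBlocks a 0 0 (d - c * w * b)) := by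
  have hwa : w * a = 1 := mul_eq_one_comm.1 haw
  have hw : adj lam w = ε • w := by
    have h1 : (ε • adj lam w) * a = 1 := by
      have h0 : adj lam w * adj lam a = 1 := by rw [← adj_mul, haw, adj_one]
      conv_lhs => rw [← ha]
      rw [Matrix.smul_mul, Matrix.mul_smul, h0, smul_smul, hε, one_smul]
    have h2 : ε • adj lam w = w := by
      calc ε • adj lam w = (ε • adj lam w) * (a * w) := by rw [haw, Matrix.mul_one]
        _ = w := by rw [← Matrix.mul_assoc, h1, Matrix.one_mul]
    rw [← h2, smul_smul, hε, one_smul, h2]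
  have hb' : adj lam b = ε • c := by rw [← hb, smul_smul, hε, one_smul]
  have hwb : adj lam (w * b) = c * w := by
    rw [adj_mul, hw, hb', Matrix.smul_mul, Matrix.mul_smul, smul_smul, hε, one_smul]
  refine cong_intro lam (v := fromBlocks 1 (-(w * b)) 0 1) (w := fromBlocks 1 (w * b) 0 1) ?_ ?_
  · rw [fromBlocks_multiply]
    simp only [Matrix.mul_zero, Matrix.zero_mul, add_zero, zero_add, Matrix.mul_one,
      Matrix.one_mul, add_neg_cancel, fromBlocks_one]
  · rw [adj_fromBlocks, adj_one, adj_one, adj_zero, adj_neg, hwb, fromBlocks_multiply,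
      fromBlocks_multiply]
    simp only [Matrix.mul_zero, Matrix.zero_mul, add_zero, Matrix.mul_one,
      Matrix.one_mul, Matrix.neg_mul, Matrix.mul_neg]
    have e1 : -(a * (w * b)) + b = 0 := by
      rw [← Matrix.mul_assoc, haw, Matrix.one_mul, neg_add_cancel]
    have e2 : -(c * w * a) + c = 0 := by
      rw [Matrix.mul_assoc, hwa, Matrix.mul_one, neg_add_cancel]
    rw [e1, e2, Matrix.zero_mul, neg_zero, zero_add, sub_eq_add_neg, add_comm d]

end cong

section elem

variable {ι : Type*} [Fintype ι] [DecidableEq ι] {lam}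

lemma adj_transvection (i j : ι) (c : A) :
    adj lam (transvection i j c) = transvection j i (lam c) := by
  ext a b
  rw [adj_apply, transvection, transvection, Matrix.add_apply, Matrix.add_apply, map_add,
    ← adj_apply, adj_one, Matrix.single_apply, Matrix.single_apply]
  congr 1
  by_cases h : i = b ∧ j = a
  · rw [if_pos h, if_pos h.symm]
  · rw [if_neg h, if_neg (fun h' => h h'.symm), map_zero]

/-- the effect of the base change `e_i ↦ e_i + c e_j`. -/
lemma cong_transvection {i j : ι} (hij : i ≠ j) (c : A) (h : Matrix ι ι A) :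
    Cong lam h (transvection i j (lam c) * h * transvection j i c) := by
  refine cong_intro lam (v := transvection j i c) (w := transvection j i (-c)) ?_ ?_
  · rw [transvection_mul_transvection_same _ _ hij.symm, add_neg_cancel, transvection_zero]
  · rw [adj_transvection]

lemma transvection_apply_self {i j : ι} (c d : A) (h : Matrix ι ι A) :
    (transvection i j d * h * transvection j i c) i i =
      h i i + d * h j i + c * (h i j + d * h j j) := by
  rw [mul_transvection_apply_same, transvection_mul_apply_same, transvection_mul_apply_same]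

lemma transvection_apply_right {i j k : ι} (hk : k ≠ i) (c d : A) (h : Matrix ι ι A) :
    (transvection i j d * h * transvection j i c) i k = h i k + d * h j k := by
  rw [mul_transvection_apply_of_ne _ _ _ _ hk, transvection_mul_apply_same]

lemma transvection_apply_left {i j k : ι} (hk : k ≠ i) (c d : A) (h : Matrix ι ι A) :
    (transvection i j d * h * transvection j i c) k i = h k i + c * h k j := by
  rw [mul_transvection_apply_same, transvection_mul_apply_of_ne _ _ _ _ hk,
    transvection_mul_apply_of_ne _ _ _ _ hk]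

lemma transvection_apply_ne {i j k l : ι} (hk : k ≠ i) (hl : l ≠ i) (c d : A)
    (h : Matrix ι ι A) :
    (transvection i j d * h * transvection j i c) k l = h k l := by
  rw [mul_transvection_apply_of_ne _ _ _ _ hl, transvection_mul_apply_of_ne _ _ _ _ hk]

/-- scaling the basis vector `e_k` by a unit. -/
lemma cong_diagonal {c d : ι → A} (hcd : ∀ i, c i * d i = 1) (h : Matrix ι ι A) :
    Cong lam h (Matrix.of fun i j => lam (c i) * h i j * c j) := by
  refine cong_intro lam (v := diagonal c) (w := diagonal d) ?_ ?_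
  · rw [diagonal_mul_diagonal]
    ext i j
    rw [diagonal_apply, Matrix.one_apply, hcd]
  · have : adj lam (diagonal c) = diagonal (fun i => lam (c i)) := by
      ext i j
      rw [adj_apply, diagonal_apply, diagonal_apply]
      split_ifs with h1 h2 h2
      · rw [h1]
      · exact absurd h1.symm h2
      · exact absurd h2.symm h1
      · exact map_zero lam
    rw [this]
    ext i j
    rw [mul_diagonal, diagonal_mul, Matrix.of_apply]

end elem

end K867.Cong
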