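import Groth.Agent.RInv.K867.Cong
import Mathlib.Data.Fintype.Sum
import Mathlib.Logic.Equiv.Fin.Basic
import Mathlib.RingTheory.LocalRing.MaximalIdeal.Basic
import Mathlib.Tactic.LinearCombination

/-!
Splitting off blocks of hermitian matrices and the diagonalisation induction.
-/

namespace K867.Diag

universe v

open Matrix K867.Cong

variable {A : Type v} [CommRing A] {lam : A ≃+* A}

lemma cong_of_eq {ι : Type*} [Fintype ι] {h h' : Matrix ι ι A} (e : h = h') :
    Cong lam h h' := by
  classical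
  rw [e]; exact Cong.refl lam _

section one

variable {ι : Type} [Fintype ι] [DecidableEq ι]

/-- splitting off one index. -/
noncomputable def ue (i : ι) : Unit ⊕ {j // j ≠ i} ≃ ι :=
  Equiv.ofBijective (Sum.elim (fun _ => i) Subtype.val) (by
    constructor
    · rintro (⟨⟩ | ⟨a, ha⟩) (⟨⟩ | ⟨b, hb⟩) h
      · rfl
      · exact absurd h.symm hb
      · exact absurd h ha
      · exact congrArg Sum.inr (Subtype.ext h)
    · intro j
      by_cases h : j = i
      · exact ⟨Sum.inl (), h.symm⟩
      · exact ⟨Sum.inr ⟨j, h⟩, rfl⟩)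

/-- the Schur complement of the entry `(i, i)` with inverse `u`. -/
def schur (h : Matrix ι ι A) (i : ι) (u : A) : Matrix {j // j ≠ i} {j // j ≠ i} A :=
  Matrix.of fun j k => h j k - h j i * u * h i k

lemma split_one {ε : A} (hε : ε * ε = 1) {h : Matrix ι ι A} (H : Herm lam ε h) (i : ι) {u : A}
    (hu : h i i * u = 1) :
    Cong lam (h.submatrix (ue i) (ue i))
      (fromBlocks (diagonal fun _ : Unit => h i i) 0 0 (schur h i u)) := by
  have e1 : h.submatrix (ue i) (ue i) = fromBlocks (diagonal fun _ : Unit => h i i)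
      (Matrix.of fun (_ : Unit) (k : {j // j ≠ i}) => h i k)
      (Matrix.of fun (j : {j // j ≠ i}) (_ : Unit) => h j i)
      (Matrix.of fun (j k : {j // j ≠ i}) => h j k) := by
    ext (⟨⟩ | a) (⟨⟩ | b)
    · rw [fromBlocks_apply₁₁, diagonal_apply_eq]; rfl
    · rfl
    · rfl
    · rfl
  rw [e1]
  have := cong_split (lam := lam) hε (a := diagonal fun _ : Unit => h i i)
    (b := Matrix.of fun (_ : Unit) (k : {j // j ≠ i}) => h i k)
    (c := Matrix.of fun (j : {j // j ≠ i}) (_ : Unit) => h j i)
    (d := Matrix.of fun (j k : {j // j ≠ i}) => h j k)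
    (w := diagonal fun _ : Unit => u) (by
      rw [diagonal_mul_diagonal, hu, diagonal_one]) (by
      ext ⟨⟩ ⟨⟩
      rw [Matrix.smul_apply, adj_apply, diagonal_apply_eq, smul_eq_mul, H.apply]) (by
      ext j ⟨⟩
      rw [Matrix.smul_apply, adj_apply, smul_eq_mul]
      exact H.apply _ _)
  refine this.trans (cong_of_eq ?_)
  congr 1
  ext j k
  rw [Matrix.sub_apply, Matrix.mul_apply, Fintype.sum_unique, mul_diagonal]
  rfl

lemma cong_fromBlocks_diagonal (i : ι) {h : Matrix ι ι A} {a : A}
    {s : Matrix {j // j ≠ i} {j // j ≠ i} A} {d : {j // j ≠ i} → A}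
    (H : Cong lam (h.submatrix (ue i) (ue i)) (fromBlocks (diagonal fun _ : Unit => a) 0 0 s))
    (H' : Cong lam s (diagonal d)) : ∃ d, Cong lam h (diagonal d) := by
  have h1 := H.trans (cong_blocks (Cong.refl lam _) H')
  rw [fromBlocks_diagonal] at h1
  refine ⟨(Sum.elim (fun _ => a) d) ∘ (ue i).symm, ?_⟩
  refine Cong.of_submatrix (ue i) ?_
  have h2 : (diagonal ((Sum.elim (fun _ => a) d) ∘ (ue i).symm)).submatrix (ue i) (ue i) =
      diagonal (Sum.elim (fun _ : Unit => a) d) := by
    rw [submatrix_diagonal_equiv]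
    congr 1
    ext x
    simp
  rw [h2]
  exact h1

lemma schur_herm_isUnit (hlam : Function.Involutive lam) {ε : A} (hε : ε * ε = 1)
    {h : Matrix ι ι A} (H : Herm lam ε h) (i : ι) {u : A}
    (hu : h i i * u = 1) (hh : IsUnit h) :
    Herm lam ε (schur h i u) ∧ IsUnit (schur h i u) := by
  have h1 := split_one hε H i hu
  constructor
  · have h2 := (Herm.cong hlam (H.submatrix (ue i)) h1).submatrix
      (Sum.inr : {j // j ≠ i} → Unit ⊕ {j // j ≠ i})
    exact h2
  · have h2 := h1.isUnit (by rw [isUnit_submatrix_equiv]; exact hh)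
    exact (isUnit_fromBlocks_zero₂₁.1 h2).2

end one

/-- the diagonalisation induction. -/
theorem diag_induction {ε : A} (hε : ε * ε = 1)
    (P : ∀ (ι : Type) [Fintype ι] [DecidableEq ι], Matrix ι ι A → Prop)
    (step : ∀ (ι : Type) [Fintype ι] [DecidableEq ι] [Nonempty ι] (h : Matrix ι ι A), P ι h →
      ∃ (h' : Matrix ι ι A) (i : ι) (u : A), Cong lam h h' ∧ Herm lam ε h' ∧ h' i i * u = 1 ∧
        P {j // j ≠ i} (schur h' i u)) :
    ∀ (n : ℕ) (ι : Type) [Fintype ι] [DecidableEq ι], Fintype.card ι = n →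
      ∀ h : Matrix ι ι A, P ι h → ∃ d, Cong lam h (diagonal d) := by
  intro n
  induction n with
  | zero =>
    intro ι _ _ hc h _
    have : IsEmpty ι := Fintype.card_eq_zero_iff.1 hc
    exact ⟨fun _ => 0, cong_of_eq (Subsingleton.elim _ _)⟩
  | succ n ih =>
    intro ι _ _ hc h hP
    have hne : Nonempty ι := Fintype.card_pos_iff.1 (by omega)
    obtain ⟨h', i, u, h1, h2, h3, h4⟩ := step ι h hP
    have hcard : Fintype.card {j // j ≠ i} = n := by
      have := Fintype.card_congr (ue i)
      rw [Fintype.card_sum, Fintype.card_unit] at this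
      omega
    obtain ⟨d, hd⟩ := ih {j // j ≠ i} hcard _ h4
    obtain ⟨d', hd'⟩ := cong_fromBlocks_diagonal i (split_one hε h2 i h3) hd
    exact ⟨d', h1.trans hd'⟩

section alt

variable {ι κ : Type} [Fintype ι] [DecidableEq ι] [Fintype κ] [DecidableEq κ]

/-- the form `h` takes values in the ideal `M` on all vectors. -/
def Alt (lam : A ≃+* A) (M : Ideal A) {ι : Type} [Fintype ι] (h : Matrix ι ι A) : Prop :=
  ∀ X : Matrix ι Unit A, (adj lam X * h * X) () () ∈ M

lemma Alt.sandwich {M : Ideal A} {h : Matrix ι ι A} (H : Alt lam M h) (v : Matrix ι κ A) :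
    Alt lam M (adj lam v * h * v) := by
  intro X
  have := H (v * X)
  rw [adj_mul] at this
  simpa only [Matrix.mul_assoc] using this

lemma Alt.cong {M : Ideal A} {h h' : Matrix ι ι A} (H : Alt lam M h) (C : Cong lam h h') :
    Alt lam M h' := by
  obtain ⟨v, w, -, -, rfl⟩ := C.exists_inv
  exact H.sandwich v

lemma submatrix_eq (h : Matrix ι ι A) (f : κ → ι) :
    h.submatrix f f = adj lam ((1 : Matrix ι ι A).submatrix id f) * h *
      ((1 : Matrix ι ι A).submatrix id f) := by
  rw [adj_submatrix, adj_one]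
  ext i j
  rw [Matrix.mul_apply, Finset.sum_eq_single (f j)]
  · rw [Matrix.submatrix_apply, Matrix.submatrix_apply, id_eq, Matrix.one_apply_eq, mul_one,
      Matrix.mul_apply, Finset.sum_eq_single (f i)]
    · rw [Matrix.submatrix_apply, id_eq, Matrix.one_apply_eq, one_mul]
    · intro b _ hb
      simp [Ne.symm hb]
    · intro h; exact absurd (Finset.mem_univ _) h
  · intro b _ hb
    simp [hb]
  · intro h; exact absurd (Finset.mem_univ _) h

lemma Alt.submatrix {M : Ideal A} {h : Matrix ι ι A} (H : Alt lam M h) (f : κ → ι) :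
    Alt lam M (h.submatrix f f) := by
  rw [submatrix_eq (lam := lam)]
  exact H.sandwich _

lemma Alt.diag_mem {M : Ideal A} {h : Matrix ι ι A} (H : Alt lam M h) (i : ι) : h i i ∈ M := by
  have := H.submatrix (fun _ : Unit => i) 1
  rw [adj_one, Matrix.one_mul, Matrix.mul_one] at this
  exact this

/-- if the diagonal lies in `M`, and `lam` is trivial modulo `M`, `ε = -1` modulo `M`, then `h` is
alternating modulo `M`. -/
lemma alt_of_diag {M : Ideal A} {ε : A} (hid : ∀ a, lam a - a ∈ M) (hε : ε + 1 ∈ M)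
    {h : Matrix ι ι A} (H : Herm lam ε h) (hd : ∀ i, h i i ∈ M) : Alt lam M h := by
  intro X
  rw [← Ideal.Quotient.eq_zero_iff_mem]
  set π := Ideal.Quotient.mk M with hπ
  have hl : ∀ a, π (lam a) = π a := by
    intro a
    rw [← sub_eq_zero, ← map_sub, hπ, Ideal.Quotient.eq_zero_iff_mem]
    exact hid a
  have he : π ε = -1 := by
    rw [← add_eq_zero_iff_eq_neg, ← map_one π, ← map_add, hπ, Ideal.Quotient.eq_zero_iff_mem]
    exact hε
  have hsym : ∀ i j, π (h i j) = - π (h j i) := by
    intro i j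
    rw [← H.apply i j, map_mul, he, hl, neg_one_mul]
  rw [Matrix.mul_apply]
  simp only [Matrix.mul_apply, Finset.sum_mul, map_sum, map_mul, adj_apply, hl]
  rw [← Finset.sum_product' Finset.univ Finset.univ
    (fun x y => π (X y ()) * π (h y x) * π (X x ()))]
  refine Finset.sum_involution (fun a _ => (a.2, a.1)) ?_ ?_ ?_ ?_
  · rintro ⟨a, b⟩ -
    simp only
    rw [hsym b a]
    ring
  · rintro ⟨a, b⟩ - hne heq
    simp only [Prod.mk.injEq] at heq
    obtain ⟨rfl, -⟩ := heq
    apply hne
    simp only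
    rw [(Ideal.Quotient.eq_zero_iff_mem).2 (hd _)]
    ring
  · rintro ⟨a, b⟩ -
    simp
  · rintro ⟨a, b⟩ -
    rfl

/-- if `2` is a unit modulo `M`, every skew-hermitian form is alternating modulo `M`. -/
lemma alt_of_two {M : Ideal A} (hid : ∀ a, lam a - a ∈ M) (h2 : IsUnit (2 : A))
    (hlam : Function.Involutive lam)
    {h : Matrix ι ι A} (H : Herm lam (-1) h) : Alt lam M h := by
  intro X
  have h1 : Herm lam (-1) (adj lam X * h * X) := by
    rw [Herm, adj_mul, adj_mul, adj_adj lam hlam, ← Matrix.mul_smul, ← Matrix.smul_mul, H,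
      Matrix.mul_assoc]
  have h3 := h1.apply () ()
  have h4 := hid ((adj lam X * h * X) () ())
  rw [← Ideal.unit_mul_mem_iff_mem M h2]
  have h5 := M.neg_mem h4
  convert h5 using 1
  linear_combination -h3

end alt

section blocks

variable {ι : Type} [Fintype ι] [DecidableEq ι]

/-- splitting off two indices. -/
noncomputable def ue2 {j k : ι} (hjk : j ≠ k) : Fin 2 ⊕ {x // x ≠ j ∧ x ≠ k} ≃ ι :=
  Equiv.ofBijective (Sum.elim ![j, k] Subtype.val) (by
    constructor
    · rintro (a | ⟨a, ha⟩) (b | ⟨b, hb⟩) h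
      · fin_cases a <;> fin_cases b
        · rfl
        · exact absurd h hjk
        · exact absurd h.symm hjk
        · rfl
      · fin_cases a
        · exact absurd h.symm hb.1
        · exact absurd h.symm hb.2
      · fin_cases b
        · exact absurd h ha.1
        · exact absurd h ha.2
      · exact congrArg Sum.inr (Subtype.ext h)
    · intro x
      by_cases h : x = j
      · exact ⟨Sum.inl 0, h.symm⟩
      · by_cases h' : x = k
        · exact ⟨Sum.inl 1, h'.symm⟩
        · exact ⟨Sum.inr ⟨x, h, h'⟩, rfl⟩)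

/-- reindexing of pairs. -/
def optEquiv (κ : Type) : Option κ × Fin 2 ≃ Fin 2 ⊕ (κ × Fin 2) where
  toFun x := match x with
    | (none, a) => Sum.inl a
    | (some k, a) => Sum.inr (k, a)
  invFun x := match x with
    | Sum.inl a => (none, a)
    | Sum.inr (k, a) => (some k, a)
  left_inv := by rintro ⟨_ | k, a⟩ <;> rfl
  right_inv := by rintro (a | ⟨k, a⟩) <;> rfl

/-- the standard alternating matrix. -/
def std (A : Type v) [CommRing A] : Matrix (Fin 2) (Fin 2) A := !![0, 1; -1, 0]

/-- alternating forms split into hyperbolic blocks. -/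
theorem exists_blocks [IsLocalRing A] (hlam : Function.Involutive lam) {ε : A} (hεε : ε * ε = 1)
    (hε : ε + 1 ∈ IsLocalRing.maximalIdeal A) :
    ∀ (n : ℕ) (ι : Type) [Fintype ι] [DecidableEq ι], Fintype.card ι = n →
      ∀ h : Matrix ι ι A, Herm lam ε h → IsUnit h → Alt lam (IsLocalRing.maximalIdeal A) h →
      ∃ (κ : Type) (_ : Fintype κ) (_ : DecidableEq κ) (e : κ × Fin 2 ≃ ι)
        (g : Matrix (κ × Fin 2) (κ × Fin 2) A), Cong lam (h.submatrix e e) g ∧
        (∀ a b x y, a ≠ b → g (a, x) (b, y) = 0) ∧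
        (∀ a x y, g (a, x) (a, y) - std A x y ∈ IsLocalRing.maximalIdeal A) := by
  intro n
  induction n using Nat.strong_induction_on with
  | _ n ih =>
  intro ι _ _ hc h H hu halt
  rcases isEmpty_or_nonempty ι with he | ⟨⟨j⟩⟩
  · refine ⟨Empty, inferInstance, inferInstance, Equiv.equivOfIsEmpty _ _, 0, ?_, ?_, ?_⟩
    · exact cong_of_eq (Subsingleton.elim _ _)
    · intro a; exact a.elim
    · intro a; exact a.elim
  -- find a unit in the row of `j`
  obtain ⟨k, hk⟩ : ∃ k, IsUnit (h j k) := by
    by_contra hcon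
    push Not at hcon
    obtain ⟨w, hw, -⟩ := isUnit_iff_exists.1 hu
    have h1 := congrFun (congrFun hw j) j
    rw [Matrix.mul_apply, Matrix.one_apply_eq] at h1
    have h2 : (1 : A) ∈ IsLocalRing.maximalIdeal A := by
      rw [← h1]
      refine sum_mem fun k _ => Ideal.mul_mem_right _ _ ?_
      exact (IsLocalRing.mem_maximalIdeal _).2 (hcon k)
    exact (Ideal.ne_top_iff_one _).1 (IsLocalRing.maximalIdeal.isMaximal A).ne_top h2
  have hjk : j ≠ k := by
    rintro rfl
    have := halt.diag_mem j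
    exact (IsLocalRing.mem_maximalIdeal _).1 this hk
  obtain ⟨c, hcu⟩ := hk.exists_right_inv
  -- scale `e_k` by `c`
  have hcong1 := cong_diagonal (lam := lam) (c := Function.update (fun _ : ι => (1 : A)) k c)
    (d := Function.update (fun _ : ι => (1 : A)) k (h j k)) (by
      intro i
      by_cases hik : i = k
      · subst hik
        rw [Function.update_self, Function.update_self, mul_comm]; exact hcu
      · rw [Function.update_of_ne hik, Function.update_of_ne hik, mul_one]) h
  set h' := (Matrix.of fun i l => lam (Function.update (fun _ : ι => (1 : A)) k c i) * h i l *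
    Function.update (fun _ : ι => (1 : A)) k c l) with hh'
  have H' : Herm lam ε h' := H.cong hlam hcong1
  have hu' : IsUnit h' := hcong1.isUnit hu
  have halt' : Alt lam (IsLocalRing.maximalIdeal A) h' := halt.cong hcong1
  have hjk' : h' j k = 1 := by
    rw [hh', Matrix.of_apply, Function.update_of_ne hjk, Function.update_self, map_one, one_mul]
    exact hcu
  have hkj' : h' k j = ε := by
    rw [← H'.apply k j, hjk', map_one, mul_one]
  -- the blocks
  set a : Matrix (Fin 2) (Fin 2) A := h'.submatrix ![j, k] ![j, k] with ha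
  set b : Matrix (Fin 2) {x // x ≠ j ∧ x ≠ k} A := h'.submatrix ![j, k] Subtype.val with hb
  set c' : Matrix {x // x ≠ j ∧ x ≠ k} (Fin 2) A := h'.submatrix Subtype.val ![j, k] with hc'
  set d : Matrix {x // x ≠ j ∧ x ≠ k} {x // x ≠ j ∧ x ≠ k} A :=
    h'.submatrix Subtype.val Subtype.val with hd
  have e1 : h'.submatrix (ue2 hjk) (ue2 hjk) = fromBlocks a b c' d := by
    ext (x | x) (y | y) <;> rfl
  have hdet : IsUnit a.det := by
    rw [Matrix.det_fin_two]
    have e2 : a 0 0 * a 1 1 - a 0 1 * a 1 0 = h' j j * h' k k - ε := by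
      change h' j j * h' k k - h' j k * h' k j = _
      rw [hjk', hkj', one_mul]
    rw [e2]
    by_contra hcon
    have h1 := (IsLocalRing.mem_maximalIdeal _).2 hcon
    have h2 : h' j j * h' k k ∈ IsLocalRing.maximalIdeal A :=
      Ideal.mul_mem_right _ _ (halt'.diag_mem j)
    have h3 := Ideal.sub_mem _ h2 h1
    rw [sub_sub_cancel] at h3
    have h4 := Ideal.mul_mem_left _ ε h3
    rw [hεε] at h4
    exact (Ideal.ne_top_iff_one _).1 (IsLocalRing.maximalIdeal.isMaximal A).ne_top h4
  have haw : a * a⁻¹ = 1 := Matrix.mul_nonsing_inv _ hdet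
  have hsplit := cong_split (lam := lam) hεε (d := d) haw
    (show ε • adj lam a = a from H'.submatrix _)
    (show ε • adj lam b = c' from by
      ext x y
      exact H'.apply _ _)
  rw [← e1] at hsplit
  set s := d - c' * a⁻¹ * b with hs
  have Hfull := Herm.cong hlam (H'.submatrix (ue2 hjk)) hsplit
  have Hs : Herm lam ε s := Hfull.submatrix (Sum.inr : _ → Fin 2 ⊕ {x // x ≠ j ∧ x ≠ k})
  have hus : IsUnit s := by
    have h2 := hsplit.isUnit (by rw [isUnit_submatrix_equiv]; exact hu')
    exact (isUnit_fromBlocks_zero₂₁.1 h2).2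
  have halts : Alt lam (IsLocalRing.maximalIdeal A) s :=
    ((halt'.submatrix (ue2 hjk)).cong hsplit).submatrix
      (Sum.inr : {x // x ≠ j ∧ x ≠ k} → Fin 2 ⊕ {x // x ≠ j ∧ x ≠ k})
  have hcard : Fintype.card {x // x ≠ j ∧ x ≠ k} < n := by
    have := Fintype.card_congr (ue2 hjk)
    rw [Fintype.card_sum, Fintype.card_fin] at this
    omega
  obtain ⟨κ, _, _, e₂, g', hg1, hg2, hg3⟩ := ih _ hcard _ rfl s Hs hus halts
  refine ⟨Option κ, inferInstance, inferInstance,
    ((optEquiv κ).trans (Equiv.sumCongr (Equiv.refl _) e₂)).trans (ue2 hjk),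
    (fromBlocks a 0 0 g').submatrix (optEquiv κ) (optEquiv κ), ?_, ?_, ?_⟩
  · have h1 : Cong lam (h.submatrix (ue2 hjk) (ue2 hjk)) (fromBlocks a 0 0 s) :=
      (hcong1.submatrix (ue2 hjk)).trans hsplit
    have h2 := h1.submatrix (Equiv.sumCongr (Equiv.refl (Fin 2)) e₂)
    have h3 : (fromBlocks a 0 0 s).submatrix (Equiv.sumCongr (Equiv.refl (Fin 2)) e₂)
        (Equiv.sumCongr (Equiv.refl (Fin 2)) e₂) = fromBlocks a 0 0 (s.submatrix e₂ e₂) := by
      ext (x | x) (y | y) <;> rfl
    rw [h3] at h2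
    exact (h2.trans (cong_blocks (Cong.refl lam a) hg1)).submatrix (optEquiv κ)
  · rintro (_ | p) (_ | q) x y hpq
    · exact absurd rfl hpq
    · rfl
    · rfl
    · exact hg2 p q x y (fun h => hpq (by rw [h]))
  · rintro (_ | p) x y
    · change a x y - std A x y ∈ _
      fin_cases x <;> fin_cases y
      · change h' j j - 0 ∈ _
        rw [sub_zero]; exact halt'.diag_mem j
      · change h' j k - 1 ∈ _
        rw [hjk', sub_self]; exact Ideal.zero_mem _
      · change h' k j - (-1) ∈ _
        rw [hkj', sub_neg_eq_add]; exact hε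
      · change h' k k - 0 ∈ _
        rw [sub_zero]; exact halt'.diag_mem k
    · exact hg3 p x y

end blocks

end K867.Diag
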