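import Groth.Agent.RInv.K867.Loc
import Groth.Agent.UnramB.IntHensel
import Mathlib.FieldTheory.PurelyInseparable.Basic
import Mathlib.RingTheory.Ideal.Quotient.Operations

/-!
Rings with involution with strictly henselian fixed ring.
-/

namespace K867.Hens

universe u v

open K867.Basic K867.Loc IsLocalRing

lemma henselian_of_ringEquiv {A : Type u} {B : Type v} [CommRing A] [CommRing B]
    [HenselianLocalRing A] (e : A ≃+* B) : HenselianLocalRing B := by
  have : Nontrivial B := e.injective.nontrivial
  have hB : IsLocalRing B := IsLocalRing.of_surjective' e.toRingHom e.surjective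
  refine ⟨fun f hf a₀ h₀ h₁ => ?_⟩
  have hev : ∀ (g : Polynomial B) (b : B),
      (g.map e.symm.toRingHom).eval (e.symm b) = e.symm (g.eval b) := by
    intro g b
    rw [Polynomial.eval_map]
    exact Polynomial.eval₂_at_apply e.symm.toRingHom b
  obtain ⟨a, ha, ha'⟩ := HenselianLocalRing.is_henselian (f.map e.symm.toRingHom)
    (hf.map _) (e.symm a₀) (by
      rw [hev, IsLocalRing.mem_maximalIdeal, mem_nonunits_iff]
      rw [IsLocalRing.mem_maximalIdeal, mem_nonunits_iff] at h₀
      intro h
      exact h₀ (by simpa using h.map e)) (by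
      rw [Polynomial.derivative_map, hev]
      exact h₁.map e.symm)
  refine ⟨e a, ?_, ?_⟩
  · have h2 := hev f (e a)
    rw [e.symm_apply_apply, Polynomial.IsRoot.def.1 ha] at h2
    rw [Polynomial.IsRoot.def]
    exact e.symm.injective (by rw [← h2, map_zero])
  · rw [IsLocalRing.mem_maximalIdeal, mem_nonunits_iff] at ha' ⊢
    intro h
    apply ha'
    have := h.map e.symm
    rwa [map_sub, e.symm_apply_apply] at this

theorem strictHens {S : Type u} {T : Type v} [CommRing S] [HenselianLocalRing S]
    [IsSepClosed (ResidueField S)] [CommRing T] [IsLocalRing T] [Algebra S T]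
    [Algebra.IsIntegral S T] : ∃ _ : HenselianLocalRing T, IsSepClosed (ResidueField T) := by
  have h1 : HenselianLocalRing T := by
    have hS : HenselianLocalRing (ULift.{v} S) :=
      henselian_of_ringEquiv (ULift.ringEquiv (R := S)).symm
    have hT : IsLocalRing (ULift.{u} T) :=
      IsLocalRing.of_surjective' (ULift.ringEquiv (R := T)).symm.toRingHom
        (ULift.ringEquiv (R := T)).symm.surjective
    let φ : ULift.{v} S →+* ULift.{u} T :=
      ((ULift.ringEquiv (R := T)).symm.toRingHom.comp (algebraMap S T)).comp
        (ULift.ringEquiv (R := S)).toRingHom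
    have hφ : φ.IsIntegral := by
      refine RingHom.IsIntegral.trans _ _ (RingHom.isIntegral_of_surjective _
        (ULift.ringEquiv (R := S)).surjective) (RingHom.IsIntegral.trans _ _
        (algebraMap_isIntegral_iff.2 inferInstance) (RingHom.isIntegral_of_surjective _
        (ULift.ringEquiv (R := T)).symm.surjective))
    let _ : Algebra (ULift.{v} S) (ULift.{u} T) := φ.toAlgebra
    have : Algebra.IsIntegral (ULift.{v} S) (ULift.{u} T) := ⟨hφ⟩
    have h2 : HenselianLocalRing (ULift.{u} T) :=
      Groth.Agent.UnramB.IntHensel.henselianLocalRing_of_isIntegral (ULift.{v} S) (ULift.{u} T)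
    exact henselian_of_ringEquiv (ULift.ringEquiv (R := T))
  refine ⟨h1, ?_⟩
  have hloc : IsLocalHom (algebraMap S T) := by
    refine ⟨fun s hs => ?_⟩
    by_contra hcon
    have h3 : s ∈ maximalIdeal S := (IsLocalRing.mem_maximalIdeal _).2 hcon
    rw [← comap_eq_maximalIdeal (S := S) (maximalIdeal T), Ideal.mem_comap,
      IsLocalRing.mem_maximalIdeal] at h3
    exact h3 hs
  have halg : Algebra.IsAlgebraic (ResidueField S) (ResidueField T) := by
    have : Algebra.IsIntegral (ResidueField S) (ResidueField T) := by
      refine ⟨fun x => ?_⟩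
      obtain ⟨y, rfl⟩ := IsLocalRing.residue_surjective x
      have hy : IsIntegral S y := Algebra.IsIntegral.isIntegral y
      have h4 : IsIntegral S (residue T y) := by
        have : residue T y = (IsScalarTower.toAlgHom S T (ResidueField T)) y := rfl
        rw [this]
        exact hy.map _
      exact h4.tower_top
    infer_instance
  exact Algebra.IsAlgebraic.isSepClosed (F := ResidueField S) (E := ResidueField T)

section

variable {S : Type u} {R : Type v} [CommRing S] [CommRing R] [Algebra S R] {lam : R ≃+* R}

/-- a separable quadratic polynomial over a strictly henselian ring has a root. -/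
lemma exists_root [HenselianLocalRing S] [IsSepClosed (ResidueField S)] (t n : S)
    (hd : IsUnit (t * t - 4 * n)) : ∃ a : S, a * a - t * a + n = 0 ∧ IsUnit (2 * a - t) := by
  have hm : (Polynomial.X ^ 2 - Polynomial.C t * Polynomial.X + Polynomial.C n :
      Polynomial S).Monic := by monicity!
  set f : Polynomial S := Polynomial.X ^ 2 - Polynomial.C t * Polynomial.X + Polynomial.C n
    with hf
  have hdeg : (f.map (residue S)).natDegree = 2 := by
    rw [hm.natDegree_map, hf]
    compute_degree!
  have hder : f.derivative = 2 * Polynomial.X - Polynomial.C t := by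
    rw [hf]
    simp [one_add_one_eq_two]
    rfl
  have hsep : (f.map (residue S)).Separable := by
    have h1 : f.Separable := by
      obtain ⟨c, hc⟩ := hd.exists_left_inv
      -- `(2X - t)² - 4 f = t² - 4n`
      refine ⟨Polynomial.C (-(4 * c)), Polynomial.C c * f.derivative, ?_⟩
      rw [hder, hf]
      have hc' : Polynomial.C c * (Polynomial.C t * Polynomial.C t - 4 * Polynomial.C n) =
          (1 : Polynomial S) := by
        have := congrArg (Polynomial.C : S → Polynomial S) hc
        rw [map_mul, map_sub, map_mul, map_mul, map_one] at this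
        exact this
      have h4 : (Polynomial.C (-(4 * c)) : Polynomial S) = - (4 * Polynomial.C c) := by
        rw [map_neg, map_mul]; rfl
      rw [h4]
      linear_combination hc'
    exact h1.map
  obtain ⟨x, hx⟩ := IsSepClosed.exists_root (f.map (residue S)) (by
    intro h
    have h2 := Polynomial.natDegree_eq_of_degree_eq_some (n := 0) h
    rw [hdeg] at h2
    exact absurd h2 (by norm_num)) hsep
  obtain ⟨a₀, rfl⟩ := IsLocalRing.residue_surjective x
  have hev : ∀ (g : Polynomial S) (b : S), (g.map (residue S)).eval (residue S b) =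
      residue S (g.eval b) := by
    intro g b
    rw [Polynomial.eval_map, Polynomial.eval₂_at_apply]
  have hfa : f.eval a₀ ∈ maximalIdeal S := by
    rw [← IsLocalRing.residue_eq_zero_iff, ← hev]; exact hx
  have hfe : ∀ b, f.eval b = b * b - t * b + n := by
    intro b; rw [hf]; simp [pow_two]
  have hde : ∀ b, f.derivative.eval b = 2 * b - t := by
    intro b; rw [hder]; simp
  have hunit : ∀ b, f.eval b ∈ maximalIdeal S → IsUnit (2 * b - t) := by
    intro b hb
    have h1 : (2 * b - t) * (2 * b - t) - 4 * f.eval b = t * t - 4 * n := by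
      rw [hfe]; ring
    have h2 : IsUnit ((2 * b - t) * (2 * b - t)) := by
      by_contra hcon
      have h3 : (2 * b - t) * (2 * b - t) ∈ maximalIdeal S :=
        (IsLocalRing.mem_maximalIdeal _).2 hcon
      have h4 := (maximalIdeal S).sub_mem h3 ((maximalIdeal S).mul_mem_left 4 hb)
      rw [h1, IsLocalRing.mem_maximalIdeal] at h4
      exact h4 hd
    exact isUnit_of_mul_isUnit_left h2
  obtain ⟨a, ha, -⟩ := HenselianLocalRing.is_henselian f hm a₀ hfa
    (by rw [hde]; exact hunit _ hfa)
  have ha0 : f.eval a = 0 := ha
  refine ⟨a, by rw [← hfe]; exact ha0, hunit a ?_⟩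
  rw [ha0]; exact Ideal.zero_mem _

/-- S15578 -/
theorem exists_ringEquiv_pi (hlam : Function.Involutive lam)
    (hS : RInv.IsFixedRing S R lam) [HenselianLocalRing S] [IsSepClosed (ResidueField S)] :
    ∃ (ι : Type) (_ : Fintype ι) (T : ι → Type v) (_ : ∀ i, CommRing (T i))
      (_ : ∀ i, HenselianLocalRing (T i)),
      (∀ i, IsSepClosed (IsLocalRing.ResidueField (T i))) ∧ Nonempty (R ≃+* (∀ i, T i)) := by
  have hint := isIntegral hlam hS
  by_cases h : ∀ r : R, lam r - r ∈ Ring.jacobson R
  · have hloc := isLocalRing_of_forall hlam hS h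
    obtain ⟨h1, h2⟩ := strictHens (S := S) (T := R)
    exact ⟨Unit, inferInstance, fun _ => R, fun _ => inferInstance, fun _ => h1, fun _ => h2,
      ⟨(RingEquiv.piUnique (fun _ : Unit => R)).symm⟩⟩
  · push Not at h
    obtain ⟨x, hx⟩ := exists_isUnit_sub hlam hS h
    obtain ⟨t, ht⟩ := exists_trace hlam hS x
    obtain ⟨n, hn⟩ := exists_norm hlam hS x
    have hloc : IsLocalHom (algebraMap S R) := by
      refine ⟨fun s hs => ?_⟩
      by_contra hcon
      have h3 : s ∈ maximalIdeal S := (IsLocalRing.mem_maximalIdeal _).2 hcon
      have hnt : Nontrivial R := hS.1.nontrivial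
      obtain ⟨M, hM⟩ := Ideal.exists_maximal R
      rw [← comap_eq_maximalIdeal (S := S) M, Ideal.mem_comap] at h3
      exact hM.ne_top (Ideal.eq_top_of_isUnit_mem _ h3 hs)
    have hd : IsUnit (t * t - 4 * n) := by
      have h1 : IsUnit (algebraMap S R (t * t - 4 * n)) := by
        have : algebraMap S R (t * t - 4 * n) = (x - lam x) * (x - lam x) := by
          rw [map_sub, map_mul, map_mul, ht, hn, map_ofNat]
          ring
        rw [this]
        exact hx.mul hx
      exact isUnit_of_map_unit (algebraMap S R) _ h1
    obtain ⟨a, ha, hau⟩ := exists_root t n hd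
    -- the two ideals
    set A := algebraMap S R a with hA
    set B := algebraMap S R (t - a) with hB
    have hAB : (x - A) * (x - B) = 0 := by
      have h1 : A * B = x * lam x := by
        rw [← hn, hA, hB, ← map_mul]
        congr 1
        linear_combination -ha
      have h2 : A + B = x + lam x := by
        rw [← ht, hA, hB, ← map_add]
        congr 1
        ring
      linear_combination (-x) * h2 + h1
    have hABu : IsUnit (A - B) := by
      have : A - B = algebraMap S R (2 * a - t) := by
        rw [hA, hB, ← map_sub]; congr 1; ring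
      rw [this]; exact hau.map _
    let I : Bool → Ideal R := fun i => bif i then Ideal.span {x - A} else Ideal.span {x - B}
    have hcop : IsCoprime (Ideal.span {x - A}) (Ideal.span {x - B}) := by
      rw [Ideal.isCoprime_span_singleton_iff]
      obtain ⟨c, hc⟩ := hABu.exists_left_inv
      exact ⟨-c, c, by linear_combination hc⟩
    have hpair : Pairwise (Function.onFun IsCoprime I) := by
      intro i j hij
      cases i <;> cases j
      · exact absurd rfl hij
      · exact hcop.symm
      · exact hcop
      · exact absurd rfl hij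
    have hinf : ⨅ i, I i = ⊥ := by
      rw [iInf_bool_eq]
      change Ideal.span {x - A} ⊓ Ideal.span {x - B} = ⊥
      rw [← Ideal.mul_eq_inf_of_coprime (Ideal.isCoprime_iff_sup_eq.1 hcop),
        Ideal.span_singleton_mul_span_singleton, hAB, Ideal.span_singleton_eq_bot]
    have hsurj : ∀ (b : S), Function.Surjective
        (algebraMap S (R ⧸ Ideal.span {x - algebraMap S R b})) := by
      intro b y
      obtain ⟨y, rfl⟩ := Ideal.Quotient.mk_surjective y
      obtain ⟨c, d, rfl⟩ := exists_coords hlam hS hx y
      refine ⟨c + d * b, ?_⟩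
      rw [IsScalarTower.algebraMap_apply S R (R ⧸ Ideal.span {x - algebraMap S R b}),
        Ideal.Quotient.algebraMap_eq, ← sub_eq_zero,
        ← map_sub, Ideal.Quotient.eq_zero_iff_mem, Ideal.mem_span_singleton]
      exact ⟨- algebraMap S R d, by rw [map_add, map_mul]; ring⟩
    have hne : ∀ (b c : S), (x - algebraMap S R b) * (x - algebraMap S R c) = 0 →
        Nontrivial (R ⧸ Ideal.span {x - algebraMap S R b}) := by
      intro b c hbc
      rw [Ideal.Quotient.nontrivial_iff]
      intro htop
      rw [Ideal.span_singleton_eq_top] at htop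
      rw [htop.mul_right_eq_zero] at hbc
      have h1 : algebraMap S R (-c) + algebraMap S R 1 * x = 0 := by
        rw [map_neg, map_one, one_mul, ← hbc]; ring
      exact one_ne_zero (coords_inj hS hx h1).2
    have key : ∀ (b c : S), (x - algebraMap S R b) * (x - algebraMap S R c) = 0 →
        ∃ _ : HenselianLocalRing (R ⧸ Ideal.span {x - algebraMap S R b}),
          IsSepClosed (ResidueField (R ⧸ Ideal.span {x - algebraMap S R b})) := by
      intro b c hbc
      have h1 := hne b c hbc
      have h2 : IsLocalRing (R ⧸ Ideal.span {x - algebraMap S R b}) :=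
        IsLocalRing.of_surjective' (algebraMap S _) (hsurj b)
      exact strictHens (S := S)
    have k1 := key a (t - a) hAB
    have k2 := key (t - a) a (by rw [mul_comm]; exact hAB)
    have hfam : ∀ i : Bool, ∃ _ : HenselianLocalRing (R ⧸ I i),
        IsSepClosed (ResidueField (R ⧸ I i)) := by
      intro i
      cases i
      · exact k2
      · exact k1
    exact ⟨Bool, inferInstance, fun i => R ⧸ I i, fun _ => inferInstance,
      fun i => (hfam i).choose, fun i => (hfam i).choose_spec,
      ⟨((RingEquiv.quotientBot R).symm.trans (Ideal.quotEquivOfEq hinf.symm)).trans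
        (Ideal.quotientInfRingEquivPiQuotient I hpair)⟩⟩

end

end K867.Hens
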