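import Groth.Agent.RInv.K867.Loc
import Groth.Agent.RInv.K867.Diag

/-!
Diagonalisation of hermitian matrices over a ring with involution with local fixed ring.
-/

namespace K867.HermDiag

universe u v

open Matrix K867.Basic K867.Loc K867.Cong K867.Diag

section

variable {A : Type v} [CommRing A] {lam : A ≃+* A}

lemma not_all_mem {ι : Type} [Fintype ι] [DecidableEq ι] [hne : Nonempty ι]
    {h : Matrix ι ι A} (hu : IsUnit h) {I : Ideal A} (hI : I ≠ ⊤) : ∃ i j, h i j ∉ I := by
  by_contra hcon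
  push Not at hcon
  obtain ⟨i⟩ := hne
  obtain ⟨w, hw, -⟩ := isUnit_iff_exists.1 hu
  have h1 := congrFun (congrFun hw i) i
  rw [Matrix.mul_apply, Matrix.one_apply_eq] at h1
  apply (Ideal.ne_top_iff_one _).1 hI
  rw [← h1]
  exact sum_mem fun k _ => Ideal.mul_mem_right _ _ (hcon i k)

/-- the common step of the hermitian cases. -/
lemma exists_unit_diag (hlam : Function.Involutive lam) {I : Ideal A} (hI : I ≠ ⊤)
    (hfix : ∀ x, lam x = x → ¬ IsUnit x → x ∈ I)
    (hoff : (∃ r, IsUnit (r - lam r)) ∨ ((∀ a, lam a - a ∈ I) ∧ IsUnit (2 : A)))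
    {ι : Type} [Fintype ι] [DecidableEq ι] [hne : Nonempty ι]
    {h : Matrix ι ι A} (H : Herm lam 1 h) (hu : IsUnit h) :
    ∃ (h' : Matrix ι ι A) (i : ι) (u : A), Cong lam h h' ∧ Herm lam 1 h' ∧ h' i i * u = 1 := by
  by_contra hcon
  push Not at hcon
  have hval : ∀ h' : Matrix ι ι A, Cong lam h h' → ∀ i, h' i i ∈ I := by
    intro h' hc i
    have H' := H.cong hlam hc
    refine hfix _ ?_ ?_
    · have := H'.apply i i
      rwa [one_mul] at this
    · intro hun
      obtain ⟨u, hu⟩ := hun.exists_right_inv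
      exact hcon h' i u hc H' hu
  have hdiag : ∀ i, h i i ∈ I := hval h (Cong.refl lam h)
  have htr : ∀ i j, i ≠ j → ∀ c, lam c * h j i + c * h i j ∈ I := by
    intro i j hij c
    have h1 := hval _ (cong_transvection hij c h) i
    rw [transvection_apply_self] at h1
    have h2 : lam c * h j i + c * h i j =
        (h i i + lam c * h j i + c * (h i j + lam c * h j j)) - h i i -
          (c * lam c) * h j j := by ring
    rw [h2]
    exact I.sub_mem (I.sub_mem h1 (hdiag i)) (I.mul_mem_left _ (hdiag j))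
  obtain ⟨i, j, hij⟩ := not_all_mem hu hI
  have hne' : i ≠ j := by
    rintro rfl
    exact hij (hdiag i)
  have h1 := htr i j hne' 1
  rw [map_one, one_mul, one_mul] at h1
  rcases hoff with ⟨r, hr⟩ | ⟨hid, h2⟩
  · have h3 := htr i j hne' r
    have h4 : (r - lam r) * h i j ∈ I := by
      have : (r - lam r) * h i j = (lam r * h j i + r * h i j) - lam r * (h j i + h i j) := by
        ring
      rw [this]
      exact I.sub_mem h3 (I.mul_mem_left _ h1)
    exact hij ((Ideal.unit_mul_mem_iff_mem I hr).1 h4)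
  · have h3 := H.apply j i
    rw [one_mul] at h3
    have h4 : 2 * h i j ∈ I := by
      have : 2 * h i j = (h j i + h i j) - (lam (h i j) - h i j) := by
        rw [h3]; ring
      rw [this]
      exact I.sub_mem h1 (hid _)
    exact hij ((Ideal.unit_mul_mem_iff_mem I h2).1 h4)

lemma diag_of_herm_one (hlam : Function.Involutive lam) {I : Ideal A} (hI : I ≠ ⊤)
    (hfix : ∀ x, lam x = x → ¬ IsUnit x → x ∈ I)
    (hoff : (∃ r, IsUnit (r - lam r)) ∨ ((∀ a, lam a - a ∈ I) ∧ IsUnit (2 : A)))
    {ι : Type} [Fintype ι] [DecidableEq ι]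
    {h : Matrix ι ι A} (H : Herm lam 1 h) (hu : IsUnit h) :
    ∃ d, Cong lam h (diagonal d) := by
  refine diag_induction (lam := lam) (ε := 1) (one_mul 1)
    (fun ι _ _ h => Herm lam 1 h ∧ IsUnit h) ?_ _ ι rfl h ⟨H, hu⟩
  rintro ι _ _ _ h ⟨H, hu⟩
  obtain ⟨h', i, u, h1, h2, h3⟩ := exists_unit_diag hlam hI hfix hoff H hu
  exact ⟨h', i, u, h1, h2, h3, schur_herm_isUnit hlam (one_mul 1) h2 i h3 (h1.isUnit hu)⟩

lemma diag_of_smul {a : A} (ha : IsUnit a) {ι : Type} [Fintype ι] [DecidableEq ι]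
    {h : Matrix ι ι A} (H : ∃ d, Cong lam (a • h) (diagonal d)) :
    ∃ d, Cong lam h (diagonal d) := by
  obtain ⟨d, hd⟩ := H
  obtain ⟨v, w, h1, -, h2⟩ := hd.exists_inv
  obtain ⟨b, hb⟩ := ha.exists_left_inv
  refine ⟨fun i => b * d i, cong_intro lam h1 ?_⟩
  have h3 : adj lam v * h * v = b • (adj lam v * (a • h) * v) := by
    rw [Matrix.mul_smul, Matrix.smul_mul, smul_smul, hb, one_smul]
  rw [h3, h2]
  ext i j
  rw [Matrix.smul_apply, diagonal_apply, diagonal_apply]
  split_ifs
  · rfl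
  · rw [smul_zero]

/-- residue characteristic two, trivial involution modulo the maximal ideal. -/
lemma diag_of_unit_diag [IsLocalRing A] (hlam : Function.Involutive lam) {ε : A}
    (hεε : ε * ε = 1)
    {ι : Type} [Fintype ι] [DecidableEq ι]
    {h : Matrix ι ι A} (H : Herm lam ε h) (hu : IsUnit h) (hd : ∃ i, IsUnit (h i i)) :
    ∃ d, Cong lam h (diagonal d) := by
  have hεu : IsUnit ε := IsUnit.of_mul_eq_one _ hεε
  refine diag_induction (lam := lam) (ε := ε) hεε
    (fun ι _ _ h => Herm lam ε h ∧ IsUnit h ∧ (IsEmpty ι ∨ ∃ i, IsUnit (h i i))) ?_ _ ι rfl h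
      ⟨H, hu, Or.inr hd⟩
  clear H hu hd h
  rintro ι _ _ hne h ⟨H, hu, hd⟩
  have hd' : ∃ i, IsUnit (h i i) := by
    rcases hd with hd | hd
    · exact absurd hne (not_nonempty_iff.2 hd)
    · exact hd
  obtain ⟨i, hi⟩ := hd'
  obtain ⟨u, hiu⟩ := hi.exists_right_inv
  obtain ⟨Hs, hus⟩ := schur_herm_isUnit hlam hεε H i hiu hu
  set s := schur h i u with hs
  by_cases hP : IsEmpty {j // j ≠ i} ∨ ∃ k, IsUnit (s k k)
  · exact ⟨h, i, u, Cong.refl lam h, H, hiu, Hs, hus, hP⟩
  rw [not_or, not_isEmpty_iff] at hP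
  obtain ⟨hne', hP⟩ := hP
  push Not at hP
  -- the matrix after splitting
  have hsplit := split_one hεε H i hiu
  set h₁ : Matrix ι ι A := (fromBlocks (diagonal fun _ : Unit => h i i) 0 0 s).submatrix
    (ue i).symm (ue i).symm with hh₁
  have hsub : h₁.submatrix (ue i) (ue i) =
      fromBlocks (diagonal fun _ : Unit => h i i) 0 0 s := by
    rw [hh₁, submatrix_submatrix, Equiv.symm_comp_self, submatrix_id_id]
  have hc₁ : Cong lam h h₁ := by
    refine Cong.of_submatrix (ue i) ?_
    rw [hsub]; exact hsplit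
  have H₁ : Herm lam ε h₁ := H.cong hlam hc₁
  have hu₁ : IsUnit h₁ := hc₁.isUnit hu
  have hii : h₁ i i = h i i := by
    have := congrFun (congrFun hsub (Sum.inl ())) (Sum.inl ())
    rw [fromBlocks_apply₁₁, diagonal_apply_eq] at this
    exact this
  have hij : ∀ j : {j // j ≠ i}, h₁ i j = 0 := fun j =>
    congrFun (congrFun hsub (Sum.inl ())) (Sum.inr j)
  have hji : ∀ j : {j // j ≠ i}, h₁ j i = 0 := fun j =>
    congrFun (congrFun hsub (Sum.inr j)) (Sum.inl ())
  have hjk : ∀ j k : {j // j ≠ i}, h₁ j k = s j k := fun j k =>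
    congrFun (congrFun hsub (Sum.inr j)) (Sum.inr k)
  obtain ⟨j, k, hjks⟩ := not_all_mem hus (IsLocalRing.maximalIdeal.isMaximal A).ne_top
  have hjkn : j ≠ k := by
    rintro rfl
    exact hjks ((IsLocalRing.mem_maximalIdeal _).2 (hP j))
  have hsu : IsUnit (s j k) := by
    by_contra hcon
    exact hjks ((IsLocalRing.mem_maximalIdeal _).2 hcon)
  have hsu' : IsUnit (s k j) := by
    rw [← Hs.apply k j]
    exact hεu.mul (hsu.map lam)
  have hsj : s j j ∈ IsLocalRing.maximalIdeal A := (IsLocalRing.mem_maximalIdeal _).2 (hP j)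
  have hsk : s k k ∈ IsLocalRing.maximalIdeal A := (IsLocalRing.mem_maximalIdeal _).2 (hP k)
  have hunit : ∀ x y : A, IsUnit x → y ∈ IsLocalRing.maximalIdeal A → IsUnit (x + y) := by
    intro x y hx hy
    by_contra hcon
    have h1 := (IsLocalRing.maximalIdeal A).sub_mem ((IsLocalRing.mem_maximalIdeal _).2 hcon) hy
    rw [add_sub_cancel_right] at h1
    exact (IsLocalRing.mem_maximalIdeal _).1 h1 hx
  have hij' : i ≠ (j : ι) := fun h => j.2 h.symm
  have hc₂ := cong_transvection (lam := lam) hij' 1 h₁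
  set h₂ := transvection i (j : ι) (lam 1) * h₁ * transvection (j : ι) i 1 with hh₂
  have H₂ : Herm lam ε h₂ := H₁.cong hlam hc₂
  have hu₂ : IsUnit h₂ := hc₂.isUnit hu₁
  have e1 : h₂ i i = h i i + s j j := by
    rw [hh₂, transvection_apply_self, hii, hji, hij, hjk, map_one]
    ring
  have hunit2 : IsUnit (h₂ i i) := by rw [e1]; exact hunit _ _ hi hsj
  obtain ⟨u₂, hiu₂⟩ := hunit2.exists_right_inv
  obtain ⟨Hs₂, hus₂⟩ := schur_herm_isUnit hlam hεε H₂ i hiu₂ hu₂
  refine ⟨h₂, i, u₂, hc₁.trans hc₂, H₂, hiu₂, Hs₂, hus₂, Or.inr ⟨k, ?_⟩⟩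
  have e2 : h₂ i k = s j k := by
    rw [hh₂, transvection_apply_right k.2, hij, hjk, map_one, one_mul, zero_add]
  have e3 : h₂ k i = s k j := by
    rw [hh₂, transvection_apply_left k.2, hji, hjk, one_mul, zero_add]
  have e4 : h₂ k k = s k k := by
    rw [hh₂, transvection_apply_ne k.2 k.2, hjk]
  change IsUnit (h₂ k k - h₂ k i * u₂ * h₂ i k)
  rw [e2, e3, e4, sub_eq_add_neg, add_comm]
  refine hunit _ _ ?_ hsk
  have hu₂' : IsUnit u₂ := IsUnit.of_mul_eq_one (h₂ i i) (by rw [mul_comm]; exact hiu₂)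
  exact ((hsu'.mul hu₂').mul hsu).neg

end

section main

variable {B : Type u} {A : Type v} [CommRing B] [CommRing A] [Algebra B A] {lam : A ≃+* A}

lemma map_maximalIdeal_ne_top (hlam : Function.Involutive lam)
    (hB : RInv.IsFixedRing B A lam) [IsLocalRing B] :
    (IsLocalRing.maximalIdeal B).map (algebraMap B A) ≠ ⊤ := by
  have := isIntegral hlam hB
  have hnt : Nontrivial A := hB.1.nontrivial
  obtain ⟨M, hM⟩ := Ideal.exists_maximal A
  have : (IsLocalRing.maximalIdeal B).map (algebraMap B A) ≤ M := by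
    rw [Ideal.map_le_iff_le_comap, comap_eq_maximalIdeal]
  exact fun h => hM.ne_top (top_le_iff.1 (h ▸ this))

/-- S15583 -/
theorem diagonalize (hlam : Function.Involutive lam)
    (hB : RInv.IsFixedRing B A lam) [IsLocalRing B] (n : ℕ) (ε : A) (hε : ε = 1 ∨ ε = -1)
    (h : Matrix (Fin n) (Fin n) A) (hh : IsUnit h) (herm : ε • (h.map lam).transpose = h)
    (hcase : (∃ a : A, lam a - a ∉ Ring.jacobson A) ∨ ε + 1 ∉ Ring.jacobson A ∨ Odd n) :
    ∃ d, Cong lam h (diagonal d) := by
  have H : Herm lam ε h := herm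
  have hεε : ε * ε = 1 := by rcases hε with rfl | rfl <;> norm_num
  by_cases hnt : ∃ a, lam a - a ∉ Ring.jacobson A
  · obtain ⟨r, hr⟩ := exists_isUnit_sub hlam hB hnt
    have hI := map_maximalIdeal_ne_top hlam hB
    have hfix : ∀ x, lam x = x → ¬ IsUnit x →
        x ∈ (IsLocalRing.maximalIdeal B).map (algebraMap B A) := by
      intro x hx hxu
      obtain ⟨t, rfl⟩ := (hB.2 x).1 hx
      refine Ideal.mem_map_of_mem _ ((IsLocalRing.mem_maximalIdeal _).2 ?_)
      intro ht
      exact hxu (ht.map _)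
    rcases hε with rfl | rfl
    · exact diag_of_herm_one hlam hI hfix (Or.inl ⟨r, hr⟩) H hh
    · refine diag_of_smul hr (diag_of_herm_one hlam hI hfix (Or.inl ⟨r, hr⟩) ?_ ?_)
      · ext i j
        rw [Matrix.smul_apply, adj_apply, Matrix.smul_apply, Matrix.smul_apply, smul_eq_mul,
          smul_eq_mul, smul_eq_mul, map_mul, map_sub, hlam r, ← H.apply i j]
        ring
      · obtain ⟨b, hb⟩ := hr.exists_left_inv
        obtain ⟨w, hw1, hw2⟩ := isUnit_iff_exists.1 hh
        refine isUnit_iff_exists.2 ⟨b • w, ?_, ?_⟩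
        · rw [Matrix.smul_mul, Matrix.mul_smul, hw1, smul_smul, mul_comm, hb, one_smul]
        · rw [Matrix.smul_mul, Matrix.mul_smul, hw2, smul_smul, hb, one_smul]
  · push Not at hnt
    have hloc := isLocalRing_of_forall hlam hB hnt
    have hJ : Ring.jacobson A = IsLocalRing.maximalIdeal A :=
      IsLocalRing.ringJacobson_eq_maximalIdeal A
    rw [hJ] at hnt hcase
    have hM := (IsLocalRing.maximalIdeal.isMaximal A).ne_top
    by_cases hε1 : ε + 1 ∈ IsLocalRing.maximalIdeal A
    · have hodd : Odd n := by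
        rcases hcase with ⟨a, ha⟩ | h1 | h1
        · exact absurd (hnt a) ha
        · exact absurd hε1 h1
        · exact h1
      have hnalt : ¬ Alt lam (IsLocalRing.maximalIdeal A) h := by
        intro halt
        obtain ⟨κ, _, _, e, g, -, -, -⟩ := exists_blocks hlam hεε hε1 _ (Fin n) rfl h H hh halt
        have hc := Fintype.card_congr e
        rw [Fintype.card_prod, Fintype.card_fin, Fintype.card_fin] at hc
        exact (Nat.not_even_iff_odd.2 hodd) ⟨Fintype.card κ, by omega⟩
      by_cases h2 : IsUnit (2 : A)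
      · exfalso
        have : ε = -1 := by
          rcases hε with rfl | rfl
          · exfalso
            rw [one_add_one_eq_two] at hε1
            exact (IsLocalRing.mem_maximalIdeal _).1 hε1 h2
          · rfl
        subst this
        exact hnalt (alt_of_two hnt h2 hlam H)
      · refine diag_of_unit_diag hlam hεε H hh ?_
        by_contra hcon
        push Not at hcon
        exact hnalt (alt_of_diag hnt hε1 H
          (fun i => (IsLocalRing.mem_maximalIdeal _).2 (hcon i)))
    · have hε' : ε = 1 := by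
        rcases hε with rfl | rfl
        · rfl
        · exfalso
          apply hε1
          rw [neg_add_cancel]
          exact Ideal.zero_mem _
      subst hε'
      refine diag_of_herm_one hlam hM ?_ (Or.inr ⟨hnt, ?_⟩) H hh
      · intro x _ hx
        exact (IsLocalRing.mem_maximalIdeal _).2 hx
      · by_contra hcon
        rw [one_add_one_eq_two] at hε1
        exact hε1 ((IsLocalRing.mem_maximalIdeal _).2 hcon)

/-- S15584 -/
theorem skew_blocks (hlam : Function.Involutive lam)
    (hB : RInv.IsFixedRing B A lam)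
    [IsLocalRing B] (n : ℕ) (hid : ∀ a : A, lam a - a ∈ Ring.jacobson A) (h2 : IsUnit (2 : A))
    (h : Matrix (Fin n) (Fin n) A) (hh : IsUnit h) (herm : -(h.map lam).transpose = h) :
    Even n ∧ ∃ v : Matrix (Fin n) (Fin n) A, IsUnit v ∧
      ∀ i j : Fin n,
        (i.val / 2 ≠ j.val / 2 → ((v.map lam).transpose * h * v) i j = 0) ∧
        (i.val / 2 = j.val / 2 → (Even i.val ↔ Even j.val) →
          ((v.map lam).transpose * h * v) i j ∈ Ring.jacobson A) ∧
        (i.val / 2 = j.val / 2 → Even i.val → ¬ Even j.val →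
          ((v.map lam).transpose * h * v) i j - 1 ∈ Ring.jacobson A) ∧
        (i.val / 2 = j.val / 2 → ¬ Even i.val → Even j.val →
          ((v.map lam).transpose * h * v) i j + 1 ∈ Ring.jacobson A) := by
  have hloc := isLocalRing_of_forall hlam hB hid
  have hJ : Ring.jacobson A = IsLocalRing.maximalIdeal A :=
    IsLocalRing.ringJacobson_eq_maximalIdeal A
  rw [hJ] at hid ⊢
  have H : Herm lam (-1) h := by
    rw [Herm, neg_smul, one_smul]; exact herm
  obtain ⟨κ, _, _, e, g, hg1, hg2, hg3⟩ := exists_blocks (lam := lam) hlam (ε := -1)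
    (by norm_num) (by rw [neg_add_cancel]; exact Ideal.zero_mem _) _ (Fin n) rfl h H hh
    (alt_of_two hid h2 hlam H)
  have hn : n = Fintype.card κ * 2 := by
    have hc := Fintype.card_congr e
    rw [Fintype.card_prod, Fintype.card_fin, Fintype.card_fin] at hc
    exact hc.symm
  refine ⟨⟨Fintype.card κ, by omega⟩, ?_⟩
  let f : Fin n ≃ κ × Fin 2 := (finCongr hn).trans (finProdFinEquiv.symm.trans
    (Equiv.prodCongr (Fintype.equivFin κ).symm (Equiv.refl (Fin 2))))
  have hf1 : ∀ i j : Fin n, (f i).1 = (f j).1 ↔ i.val / 2 = j.val / 2 := by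
    intro i j
    change (Fintype.equivFin κ).symm _ = (Fintype.equivFin κ).symm _ ↔ _
    rw [Equiv.apply_eq_iff_eq, Fin.ext_iff]
    rfl
  have hf2 : ∀ i : Fin n, ((f i).2 : ℕ) = i.val % 2 := by
    intro i; rfl
  have C : Cong lam h (g.submatrix f f) :=
    (cong_perm h (f.trans e)).trans (hg1.submatrix f)
  obtain ⟨v, hv, hvg⟩ := (cong_iff lam _ _).1 C
  refine ⟨v, hv, fun i j => ?_⟩
  rw [hvg, Matrix.submatrix_apply]
  have hpi : f i = ((f i).1, (f i).2) := rfl
  have hpj : f j = ((f j).1, (f j).2) := rfl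
  have hev : ∀ i : Fin n, Even i.val → (f i).2 = 0 := by
    intro i hi
    apply Fin.ext
    rw [hf2]
    exact Nat.even_iff.1 hi
  have hodd : ∀ i : Fin n, ¬ Even i.val → (f i).2 = 1 := by
    intro i hi
    apply Fin.ext
    rw [hf2]
    rw [Nat.even_iff] at hi
    change i.val % 2 = 1
    omega
  have key : i.val / 2 = j.val / 2 →
      g (f i) (f j) - std A (f i).2 (f j).2 ∈ IsLocalRing.maximalIdeal A := by
    intro hij
    have h1 := (hf1 i j).2 hij
    have h3 := hg3 (f i).1 (f i).2 (f j).2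
    rw [← hpi] at h3
    rw [h1, ← hpj] at h3
    exact h3
  refine ⟨?_, ?_, ?_, ?_⟩
  · intro hij
    have := hg2 (f i).1 (f j).1 (f i).2 (f j).2 (fun h => hij ((hf1 i j).1 h))
    exact this
  · intro hij hpar
    have h3 := key hij
    by_cases hi : Even i.val
    · rw [hev i hi, hev j (hpar.1 hi)] at h3
      change g (f i) (f j) - 0 ∈ _ at h3
      rwa [sub_zero] at h3
    · rw [hodd i hi, hodd j (fun h => hi (hpar.2 h))] at h3
      change g (f i) (f j) - 0 ∈ _ at h3
      rwa [sub_zero] at h3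
  · intro hij hi hj
    have h3 := key hij
    rw [hev i hi, hodd j hj] at h3
    exact h3
  · intro hij hi hj
    have h3 := key hij
    rw [hodd i hi, hev j hj] at h3
    change g (f i) (f j) - (-1) ∈ _ at h3
    rwa [sub_neg_eq_add] at h3

end main

end K867.HermDiag
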