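import Groth.Agent.RInv.K867.Basic
import Mathlib.LinearAlgebra.Determinant
import Mathlib.RingTheory.LocalRing.Module
import Mathlib.RingTheory.LocalRing.Quotient
import Mathlib.RingTheory.Unramified.Field
import Mathlib.RingTheory.Jacobson.Ring

/-!
Involutions with local fixed ring.
-/

namespace K867.Loc

universe u v

open K867.Basic

section noInv

variable {S : Type u} {R : Type v} [CommRing S] [CommRing R] [Algebra S R]

/-- if `1, x` is a basis of the formally unramified `S`-algebra `R` and `x² = t x - n`, then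
`2 x - t` is a unit. -/
lemma isUnit_two_mul_sub [Algebra.FormallyUnramified S R] (b : Module.Basis (Fin 2) S R)
    (h0 : b 0 = 1) (t n : S)
    (h : b 1 * b 1 = algebraMap S R t * b 1 - algebraMap S R n) :
    IsUnit (2 * b 1 - algebraMap S R t) := by
  set X := b 1 with hX
  set J : Ideal R := Ideal.span {2 * X - algebraMap S R t} with hJ
  have hrep : ∀ x : R, x = algebraMap S R (b.coord 0 x) + algebraMap S R (b.coord 1 x) * X := by
    intro x
    have := b.sum_repr x
    rw [Fin.sum_univ_two, h0, ← hX, Algebra.smul_def, Algebra.smul_def, mul_one] at this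
    exact this.symm
  have hc : ∀ a c : S, b.coord 1 (algebraMap S R a + algebraMap S R c * X) = c := by
    intro a c
    have : algebraMap S R a + algebraMap S R c * X = a • b 0 + c • b 1 := by
      rw [h0, ← hX, Algebra.smul_def, Algebra.smul_def, mul_one]
    rw [this, map_add, map_smul, map_smul, Module.Basis.coord_apply, Module.Basis.coord_apply,
      b.repr_self, b.repr_self]
    simp
  let D : Derivation S R (R ⧸ J) :=
    { toLinearMap := (Algebra.linearMap S (R ⧸ J)) ∘ₗ (b.coord 1)
      map_one_eq_zero' := by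
        have h1 : (b.coord 1) 1 = 0 := by
          have := hc 1 0
          rwa [map_one, map_zero, zero_mul, add_zero] at this
        rw [LinearMap.comp_apply, h1, map_zero]
      leibniz' := by
        intro x y
        obtain ⟨a, c, rfl⟩ : ∃ a c : S, x = algebraMap S R a + algebraMap S R c * X :=
          ⟨_, _, hrep x⟩
        obtain ⟨a', c', rfl⟩ : ∃ a c : S, y = algebraMap S R a + algebraMap S R c * X :=
          ⟨_, _, hrep y⟩
        have hxy : (algebraMap S R a + algebraMap S R c * X) *
            (algebraMap S R a' + algebraMap S R c' * X) =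
            algebraMap S R (a * a' - c * c' * n) +
              algebraMap S R (a * c' + a' * c + c * c' * t) * X := by
          simp only [map_add, map_sub, map_mul]
          linear_combination (algebraMap S R c * algebraMap S R c') * h
        rw [hxy]
        simp only [LinearMap.comp_apply, hc]
        rw [Algebra.linearMap_apply, Algebra.linearMap_apply, Algebra.linearMap_apply,
          IsScalarTower.algebraMap_apply S R (R ⧸ J), IsScalarTower.algebraMap_apply S R (R ⧸ J),
          IsScalarTower.algebraMap_apply S R (R ⧸ J), Algebra.smul_def, Algebra.smul_def,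
          ← map_mul, ← map_mul, ← map_add, ← sub_eq_zero, ← map_sub,
          Ideal.Quotient.algebraMap_eq, Ideal.Quotient.eq_zero_iff_mem, hJ,
          Ideal.mem_span_singleton]
        refine ⟨- (algebraMap S R c * algebraMap S R c'), ?_⟩
        simp only [map_add, map_mul]
        ring }
  have hD : D X = 0 := by
    rw [← Derivation.liftKaehlerDifferential_comp_D]
    have : Subsingleton (Ω[R⁄S]) := Algebra.FormallyUnramified.subsingleton_kaehlerDifferential
    rw [Subsingleton.elim (KaehlerDifferential.D S R X) 0, map_zero]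
  have hD' : D X = 1 := by
    change algebraMap S (R ⧸ J) (b.coord 1 X) = 1
    have : b.coord 1 X = 1 := by
      have := hc 0 1
      rwa [map_one, map_zero, one_mul, zero_add] at this
    rw [this, map_one]
  rw [hD] at hD'
  have h1 : (1 : R) ∈ J := by
    rw [← Ideal.Quotient.eq_zero_iff_mem, map_one, hD']
  rw [hJ, Ideal.mem_span_singleton] at h1
  exact isUnit_of_dvd_one h1

/-- over a local ring, `1` is part of a basis of a free algebra of rank two. -/
lemma exists_basis_one [IsLocalRing S] (b : Module.Basis (Fin 2) S R) :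
    ∃ b' : Module.Basis (Fin 2) S R, b' 0 = 1 := by
  have hrep : (1 : R) = (b.coord 0 1) • b 0 + (b.coord 1 1) • b 1 := by
    have := b.sum_repr 1
    rw [Fin.sum_univ_two] at this
    exact this.symm
  set a := b.coord 0 1 with ha
  set c := b.coord 1 1 with hc
  have key : IsUnit a ∨ IsUnit c := by
    by_contra hcon
    push Not at hcon
    have ham : a ∈ IsLocalRing.maximalIdeal S := (IsLocalRing.mem_maximalIdeal _).2 hcon.1
    have hcm : c ∈ IsLocalRing.maximalIdeal S := (IsLocalRing.mem_maximalIdeal _).2 hcon.2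
    have h1 : b.coord 0 (1 * b 0) = 1 := by
      rw [one_mul, Module.Basis.coord_apply, b.repr_self]; simp
    rw [hrep, add_mul, smul_mul_assoc, smul_mul_assoc, map_add, map_smul, map_smul] at h1
    have h2 : (1 : S) ∈ IsLocalRing.maximalIdeal S := by
      rw [← h1]
      exact Ideal.add_mem _ (Ideal.mul_mem_right _ _ ham) (Ideal.mul_mem_right _ _ hcm)
    exact (Ideal.ne_top_iff_one _).1 (IsLocalRing.maximalIdeal.isMaximal S).ne_top h2
  have main : ∀ v : Fin 2 → R, v 0 = 1 → IsUnit (b.det v) → ∃ b' : Module.Basis (Fin 2) S R,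
      b' 0 = 1 := by
    intro v hv hu
    rw [← Module.Basis.is_basis_iff_det] at hu
    exact ⟨Module.Basis.mk hu.1 hu.2.ge, by rw [Module.Basis.mk_apply, hv]⟩
  rcases key with h | h
  · refine main ![1, b 1] rfl ?_
    rw [Module.Basis.det_apply, Matrix.det_fin_two]
    simp only [Module.Basis.toMatrix_apply, Matrix.cons_val_zero, Matrix.cons_val_one,
      b.repr_self]
    have h' : IsUnit ((b.repr 1) 0) := h
    simpa using h'
  · refine main ![1, b 0] rfl ?_
    rw [Module.Basis.det_apply, Matrix.det_fin_two]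
    simp only [Module.Basis.toMatrix_apply, Matrix.cons_val_zero, Matrix.cons_val_one,
      b.repr_self]
    have h' : IsUnit ((b.repr 1) 1) := h
    simpa using h'

lemma exists_basis_of_isQuadEtale [IsLocalRing S] (hq : RInv.IsQuadEtale S R) :
    Nonempty (Module.Basis (Fin 2) S R) := by
  obtain ⟨h1, h2, h3, h4⟩ := hq
  have hfree : Module.Free S R := Module.free_of_flat_of_isLocalRing
  have hr := h4 (IsLocalRing.closedPoint S)
  rw [Module.rankAtStalk_eq_finrank_of_free] at hr
  exact ⟨Module.finBasisOfFinrankEq S R hr⟩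

/-- for an integral algebra over a local ring, maximal ideals contract to the maximal ideal. -/
lemma comap_eq_maximalIdeal [IsLocalRing S] [Algebra.IsIntegral S R] (M : Ideal R)
    [M.IsMaximal] : M.comap (algebraMap S R) = IsLocalRing.maximalIdeal S := by
  have := Ideal.isMaximal_comap_of_isIntegral_of_isMaximal (R := S) M
  exact IsLocalRing.eq_maximalIdeal this

lemma isUnit_of_forall_notMem {x : R} (h : ∀ M : Ideal R, M.IsMaximal → x ∉ M) : IsUnit x := by
  by_contra hx
  obtain ⟨M, hM, hxM⟩ := exists_max_ideal_of_mem_nonunits hx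
  exact h M hM hxM

lemma mem_jacobson_iff (x : R) : x ∈ Ring.jacobson R ↔ ∀ M : Ideal R, M.IsMaximal → x ∈ M := by
  rw [← Ideal.jacobson_bot, Ideal.jacobson, Ideal.mem_sInf]
  constructor
  · intro h M hM; exact h ⟨bot_le, hM⟩
  · rintro h M ⟨-, hM⟩; exact h M hM

end noInv

section Inv

variable {S : Type u} {R : Type v} [CommRing S] [CommRing R] [Algebra S R] {lam : R ≃+* R}

/-- S15574 -/
theorem exists_isUnit_of_isQuadEtale (hlam : Function.Involutive lam)
    (hS : RInv.IsFixedRing S R lam) [IsLocalRing S] (hq : RInv.IsQuadEtale S R) :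
    ∃ r : R, IsUnit (r - lam r) := by
  obtain ⟨b0⟩ := exists_basis_of_isQuadEtale hq
  obtain ⟨b, hb⟩ := exists_basis_one b0
  obtain ⟨t, ht⟩ := exists_trace hlam hS (b 1)
  obtain ⟨n, hn⟩ := exists_norm hlam hS (b 1)
  have := hq.2.2.1
  have h := isUnit_two_mul_sub b hb t n (by rw [ht, hn]; ring)
  rw [ht] at h
  refine ⟨b 1, ?_⟩
  have h2 : b 1 - lam (b 1) = 2 * b 1 - (b 1 + lam (b 1)) := by ring
  rw [h2]
  exact h

/-- an element `x` with `lam x` associated to `x` is a unit as soon as it avoids one maximal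
ideal. -/
lemma isUnit_of_notMem (hlam : Function.Involutive lam)
    (hS : RInv.IsFixedRing S R lam) [IsLocalRing S] (M : Ideal R) [M.IsMaximal] {x : R}
    (h1 : x ∉ M) (h2 : lam x ∉ M) : IsUnit x := by
  have := isIntegral hlam hS
  refine isUnit_of_forall_notMem fun N hN => ?_
  rcases eq_or_eq_comap hlam hS M N (by rw [comap_eq_maximalIdeal, comap_eq_maximalIdeal]) with
    h | h
  · rw [h]; exact h1
  · rw [h, Ideal.mem_comap]; exact h2

/-- S15576, core form -/
theorem exists_isUnit_sub (hlam : Function.Involutive lam)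
    (hS : RInv.IsFixedRing S R lam) [IsLocalRing S] (h : ∃ r : R, lam r - r ∉ Ring.jacobson R) :
    ∃ r : R, IsUnit (r - lam r) := by
  obtain ⟨r, hr⟩ := h
  rw [mem_jacobson_iff] at hr
  push Not at hr
  obtain ⟨M, hM, hrM⟩ := hr
  refine ⟨r, isUnit_of_notMem hlam hS M ?_ ?_⟩
  · rwa [← neg_mem_iff, neg_sub]
  · rwa [map_sub, hlam r]

/-- S15577 -/
theorem isLocalRing_of_forall (hlam : Function.Involutive lam)
    (hS : RInv.IsFixedRing S R lam) [IsLocalRing S] (h : ∀ r : R, lam r - r ∈ Ring.jacobson R) :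
    IsLocalRing R := by
  have := isIntegral hlam hS
  have hnt : Nontrivial R := hS.1.nontrivial
  obtain ⟨M, hM⟩ := Ideal.exists_maximal R
  refine IsLocalRing.of_unique_max_ideal ⟨M, hM, fun N hN => ?_⟩
  rcases eq_or_eq_comap hlam hS M N (by rw [comap_eq_maximalIdeal, comap_eq_maximalIdeal]) with
    h1 | h1
  · exact h1
  · rw [h1]
    ext x
    rw [Ideal.mem_comap]
    have h2 := (mem_jacobson_iff _).1 (h x) M hM
    constructor
    · intro h3
      have := M.sub_mem h3 h2
      rwa [sub_sub_cancel] at this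
    · intro h3
      have := M.add_mem h2 h3
      rwa [sub_add_cancel] at this

theorem not_isQuadEtale_of_forall (hlam : Function.Involutive lam)
    (hS : RInv.IsFixedRing S R lam) [IsLocalRing S] (h : ∀ r : R, lam r - r ∈ Ring.jacobson R) :
    ¬ RInv.IsQuadEtale S R := by
  intro hq
  obtain ⟨r, hr⟩ := exists_isUnit_of_isQuadEtale hlam hS hq
  have hnt : Nontrivial R := hS.1.nontrivial
  obtain ⟨M, hM⟩ := Ideal.exists_maximal R
  have h2 := (mem_jacobson_iff _).1 (h r) M hM
  have h3 : r - lam r ∈ M := by rwa [← neg_mem_iff, neg_sub]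
  exact hM.ne_top (Ideal.eq_top_of_isUnit_mem _ h3 hr)

/-- S15580, from a unit `y - lam y`. -/
theorem hilbert90 (hlam : Function.Involutive lam)
    (hS : RInv.IsFixedRing S R lam) [IsLocalRing S] (y : R) (hy : IsUnit (y - lam y))
    (r : Rˣ) (hr : lam r * r = 1) :
    ∃ a : Rˣ, (r : R) = (a⁻¹ : Rˣ) * lam a := by
  have hnt : Nontrivial R := hS.1.nontrivial
  obtain ⟨M, hM⟩ := Ideal.exists_maximal R
  have hri : (lam r : R) = (r⁻¹ : Rˣ) := by
    rw [← mul_one (lam (r : R)), ← r.mul_inv, ← mul_assoc, hr, one_mul]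
  -- `a(x) = x + r⁻¹ lam x`
  have hlama : ∀ x : R, lam (x + (r⁻¹ : Rˣ) * lam x) = r * (x + (r⁻¹ : Rˣ) * lam x) := by
    intro x
    rw [← hri, map_add, map_mul, hlam, hlam, mul_add, ← mul_assoc, mul_comm (r : R) (lam r), hr,
      one_mul]
    ring
  have hunit : ∀ x : R, x + (r⁻¹ : Rˣ) * lam x ∉ M → IsUnit (x + (r⁻¹ : Rˣ) * lam x) := by
    intro x hx
    refine isUnit_of_notMem hlam hS M hx ?_
    rw [hlama]
    intro h
    exact hx ((Ideal.unit_mul_mem_iff_mem M r.isUnit).1 h)
  have hex : ∃ x : R, x + (r⁻¹ : Rˣ) * lam x ∉ M := by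
    by_contra hcon
    push Not at hcon
    have h1 := hcon 1
    have h2 := hcon y
    have h3 := M.sub_mem h2 (M.mul_mem_left y h1)
    have h4 : y + (r⁻¹ : Rˣ) * lam y - y * (1 + (r⁻¹ : Rˣ) * lam 1) =
        (-(r⁻¹ : Rˣ)) * (y - lam y) := by
      rw [map_one]; ring
    rw [h4] at h3
    exact hM.ne_top (Ideal.eq_top_of_isUnit_mem _ h3 ((r⁻¹).isUnit.neg.mul hy))
  obtain ⟨x, hx⟩ := hex
  obtain ⟨a, ha⟩ := hunit x hx
  refine ⟨a, ?_⟩
  rw [ha, hlama, ← ha, mul_comm, mul_assoc, a.mul_inv, mul_one]

lemma lam_mem_jacobson (x : R) (hx : x ∈ Ring.jacobson R) : lam x ∈ Ring.jacobson R := by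
  rw [mem_jacobson_iff] at hx ⊢
  intro M hM
  have : (M.comap lam).IsMaximal := Ideal.comap_isMaximal_of_equiv lam
  exact hx _ this

/-- fixed elements of the Jacobson radical come from the maximal ideal. -/
lemma mem_maximalIdeal_of_mem_jacobson (hS : RInv.IsFixedRing S R lam) [IsLocalRing S] (t : S)
    (h : algebraMap S R t ∈ Ring.jacobson R) : t ∈ IsLocalRing.maximalIdeal S := by
  have hnt : Nontrivial R := hS.1.nontrivial
  obtain ⟨M, hM⟩ := Ideal.exists_maximal R
  rw [IsLocalRing.mem_maximalIdeal]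
  intro ht
  exact hM.ne_top (Ideal.eq_top_of_isUnit_mem _ ((mem_jacobson_iff _).1 h M hM)
    (ht.map (algebraMap S R)))

/-- S15581 -/
theorem jacobson_sq_le (hlam : Function.Involutive lam)
    (hS : RInv.IsFixedRing S R lam) [IsLocalRing S] (h2 : IsUnit (2 : S)) :
    (Ring.jacobson R) ^ 2 ≤ (IsLocalRing.maximalIdeal S).map (algebraMap S R) := by
  rw [pow_two, Ideal.mul_le]
  intro a ha b hb
  set I := (IsLocalRing.maximalIdeal S).map (algebraMap S R) with hI
  have hfix : ∀ x : R, x ∈ Ring.jacobson R → lam x = x → x ∈ I := by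
    intro x hx hx'
    obtain ⟨t, rfl⟩ := (hS.2 x).1 hx'
    exact Ideal.mem_map_of_mem _ (mem_maximalIdeal_of_mem_jacobson hS t hx)
  have h4 : IsUnit (algebraMap S R 4) := by
    have : (4 : S) = 2 * 2 := by norm_num
    rw [this]
    exact (h2.mul h2).map _
  have h4' : (algebraMap S R 4) = 4 := map_ofNat _ 4
  rw [h4'] at h4
  rw [← Ideal.unit_mul_mem_iff_mem I h4]
  have hJa := lam_mem_jacobson (lam := lam) a ha
  have hJb := lam_mem_jacobson (lam := lam) b hb
  have e : 4 * (a * b) = (a + lam a) * (b + lam b) + (a + lam a) * (b - lam b) +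
      (a - lam a) * (b + lam b) + (a - lam a) * (b - lam b) := by ring
  rw [e]
  have h1 : a + lam a ∈ I := hfix _ (Ideal.add_mem _ ha hJa) (by rw [map_add, hlam a, add_comm])
  have h3 : b + lam b ∈ I := hfix _ (Ideal.add_mem _ hb hJb) (by rw [map_add, hlam b, add_comm])
  have h5 : (a - lam a) * (b - lam b) ∈ I := by
    refine hfix _ (Ideal.mul_mem_right _ _ (Ideal.sub_mem _ ha hJa)) ?_
    rw [map_mul, map_sub, map_sub, hlam a, hlam b]
    ring
  exact Ideal.add_mem _ (Ideal.add_mem _ (Ideal.add_mem _ (Ideal.mul_mem_right _ _ h1)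
    (Ideal.mul_mem_right _ _ h1)) (Ideal.mul_mem_left _ _ h3)) h5

end Inv

end K867.Loc
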