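import Groth.Agent.RInv.K867.Loc
import Mathlib.RingTheory.Artinian.Ring
import Mathlib.RingTheory.KrullDimension.Basic
import Mathlib.RingTheory.HopkinsLevitzki

/-!
Reduction of a quadratic etale algebra over a local ring modulo the maximal ideal.
-/

namespace K867.Res

universe u v

open K867.Basic K867.Loc IsLocalRing

section

variable {S : Type u} {R : Type v} [CommRing S] [CommRing R] [Algebra S R] [IsLocalRing S]

attribute [local instance] Ideal.Quotient.field

lemma formallyUnramified_quot (hq : RInv.IsQuadEtale S R) :
    Algebra.FormallyUnramified (S ⧸ maximalIdeal S)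
      (R ⧸ (maximalIdeal S).map (algebraMap S R)) := by
  have := hq.2.2.1
  have h1 : Algebra.FormallyUnramified S (R ⧸ (maximalIdeal S).map (algebraMap S R)) :=
    Algebra.FormallyUnramified.of_surjective
      (Ideal.Quotient.mkₐ S ((maximalIdeal S).map (algebraMap S R)))
      (Ideal.Quotient.mkₐ_surjective _ _)
  exact Algebra.FormallyUnramified.of_restrictScalars S _ _

lemma finite_quot (hq : RInv.IsQuadEtale S R) :
    Module.Finite (S ⧸ maximalIdeal S)
      (R ⧸ (maximalIdeal S).map (algebraMap S R)) := by
  have := hq.1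
  exact Module.Finite.of_restrictScalars_finite S _ _

lemma isReduced_quot (hq : RInv.IsQuadEtale S R) :
    IsReduced (R ⧸ (maximalIdeal S).map (algebraMap S R)) := by
  have := formallyUnramified_quot hq
  have := finite_quot hq
  exact Algebra.FormallyUnramified.isReduced_of_field (S ⧸ maximalIdeal S) _

/-- S15579 -/
theorem jacobson_eq (hq : RInv.IsQuadEtale S R) :
    Ring.jacobson R = (maximalIdeal S).map (algebraMap S R) := by
  have := hq.1
  apply le_antisymm
  · intro x hx
    have := finite_quot hq
    have hred := isReduced_quot hq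
    have hart : IsArtinianRing (R ⧸ (maximalIdeal S).map (algebraMap S R)) :=
      isArtinian_of_tower (S ⧸ maximalIdeal S) inferInstance
    have hdim := (isArtinianRing_iff_isNoetherianRing_krullDimLE_zero.1 hart).2
    have h1 := Ring.jacobson_eq_nilradical_of_krullDimLE_zero
      (R ⧸ (maximalIdeal S).map (algebraMap S R))
    rw [nilradical_eq_zero] at h1
    rw [← Ideal.Quotient.eq_zero_iff_mem]
    have h2 : Ideal.Quotient.mk ((maximalIdeal S).map (algebraMap S R)) x ∈
        Ring.jacobson (R ⧸ (maximalIdeal S).map (algebraMap S R)) := by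
      rw [mem_jacobson_iff] at hx ⊢
      intro N hN
      have : (N.comap (Ideal.Quotient.mk ((maximalIdeal S).map (algebraMap S R)))).IsMaximal :=
        Ideal.comap_isMaximal_of_surjective _ Ideal.Quotient.mk_surjective
      exact hx _ this
    rw [h1] at h2
    exact h2
  · rw [Ideal.map_le_iff_le_comap]
    intro s hs
    rw [Ideal.mem_comap, mem_jacobson_iff]
    intro M hM
    rw [← comap_eq_maximalIdeal (S := S) M] at hs
    exact hs

/-- a reduced algebra of dimension two over a field is a field or a product. -/
lemma equiv_prod_of_not_isField (k : Type u) (Q : Type v) [Field k] [CommRing Q] [Algebra k Q]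
    [IsReduced Q] (h2 : Module.finrank k Q = 2) (hQ : ¬ IsField Q) :
    Nonempty (Q ≃ₐ[k] k × k) := by
  have hfin : Module.Finite k Q := Module.finite_of_finrank_pos (by omega)
  have hnt : Nontrivial Q := Module.nontrivial_of_finrank_pos (R := k) (by omega)
  obtain ⟨x, hx0, hxu⟩ : ∃ x : Q, x ≠ 0 ∧ ¬ IsUnit x := by
    by_contra hcon
    push Not at hcon
    exact hQ ⟨exists_pair_ne Q, mul_comm, fun {a} ha => (hcon a ha).exists_right_inv⟩
  -- multiplication by `x` has rank one
  have hrk : ∃ c : k, x * x = algebraMap k Q c * x := by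
    by_contra hcon
    push Not at hcon
    have hli : LinearIndependent k ![x, x * x] := by
      rw [LinearIndependent.pair_iff]
      intro s t hst
      by_cases ht : t = 0
      · subst ht
        rw [zero_smul, add_zero, smul_eq_zero] at hst
        exact ⟨hst.resolve_right hx0, rfl⟩
      · exfalso
        apply hcon (- (t⁻¹ * s))
        have hti : algebraMap k Q t⁻¹ * algebraMap k Q t = 1 := by
          rw [← map_mul, inv_mul_cancel₀ ht, map_one]
        rw [Algebra.smul_def, Algebra.smul_def] at hst
        rw [map_neg, map_mul]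
        linear_combination (algebraMap k Q t⁻¹) * hst - (x * x) * hti
    have hspan := hli.span_eq_top_of_card_eq_finrank' (by rw [h2]; rfl)
    have h1 : (1 : Q) ∈ Submodule.span k (Set.range ![x, x * x]) := by
      rw [hspan]; trivial
    rw [Matrix.range_cons, Matrix.range_cons, Matrix.range_empty, Set.union_empty,
      Set.singleton_union, Submodule.mem_span_pair] at h1
    obtain ⟨a, b, hab⟩ := h1
    apply hxu
    refine IsUnit.of_mul_eq_one (algebraMap k Q a + algebraMap k Q b * x) ?_
    rw [← hab, Algebra.smul_def, Algebra.smul_def]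
    ring
  obtain ⟨c, hc⟩ := hrk
  have hc0 : c ≠ 0 := by
    rintro rfl
    rw [map_zero, zero_mul] at hc
    have : IsNilpotent x := ⟨2, by rw [pow_two, hc]⟩
    exact hx0 this.eq_zero
  set e : Q := algebraMap k Q c⁻¹ * x with he
  have hci : algebraMap k Q c⁻¹ * algebraMap k Q c = 1 := by
    rw [← map_mul, inv_mul_cancel₀ hc0, map_one]
  have hee : e * e = e := by
    rw [he]
    linear_combination (algebraMap k Q c⁻¹ * algebraMap k Q c⁻¹) * hc +
      (algebraMap k Q c⁻¹ * x) * hci
  have he0 : e ≠ 0 := by
    intro h
    apply hx0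
    have : x = algebraMap k Q c * e := by
      rw [he]; linear_combination (-x) * hci
    rw [this, h, mul_zero]
  have he1 : 1 - e ≠ 0 := by
    intro h
    apply hxu
    have h1 : algebraMap k Q c⁻¹ * x = 1 := (sub_eq_zero.1 h).symm
    exact IsUnit.of_mul_eq_one (algebraMap k Q c⁻¹) (by rw [mul_comm]; exact h1)
  have hef : e * (1 - e) = 0 := by rw [mul_sub, mul_one, hee, sub_self]
  let φ : k × k →ₐ[k] Q := AlgHom.ofLinearMap
    ((LinearMap.toSpanSingleton k Q e).coprod (LinearMap.toSpanSingleton k Q (1 - e)))
    (by
      simp only [LinearMap.coprod_apply, LinearMap.toSpanSingleton_apply, Prod.fst_one,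
        Prod.snd_one, one_smul]
      ring)
    (by
      rintro ⟨a, b⟩ ⟨a', b'⟩
      simp only [LinearMap.coprod_apply, LinearMap.toSpanSingleton_apply, Prod.mk_mul_mk,
        Algebra.smul_def, map_mul]
      linear_combination (-(algebraMap k Q a * algebraMap k Q a') -
        algebraMap k Q b * algebraMap k Q b') * hee +
        (-(algebraMap k Q a * algebraMap k Q b') -
        algebraMap k Q b * algebraMap k Q a') * hef)
  have hφ : ∀ a b : k, φ (a, b) = a • e + b • (1 - e) := by
    intro a b
    rfl
  have hinj : Function.Injective φ := by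
    rw [injective_iff_map_eq_zero]
    rintro ⟨a, b⟩ hab
    rw [hφ] at hab
    have h1 : a • e = 0 := by
      have := congrArg (e * ·) hab
      simp only [mul_add, mul_smul_comm, hee, hef, smul_zero, add_zero, mul_zero] at this
      exact this
    have h3 : b • (1 - e) = 0 := by rw [h1, zero_add] at hab; exact hab
    rw [(smul_eq_zero.1 h1).resolve_right he0, (smul_eq_zero.1 h3).resolve_right he1]
    rfl
  have hbij : Function.Bijective φ := by
    refine ⟨hinj, ?_⟩
    have : Module.finrank k (k × k) = Module.finrank k Q := by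
      rw [h2, Module.finrank_prod, Module.finrank_self]
    exact (LinearMap.injective_iff_surjective_of_finrank_eq_finrank
      (f := φ.toLinearMap) this).1 hinj
  exact ⟨(AlgEquiv.ofBijective φ hbij).symm⟩

/-- S15585 -/
theorem isField_or_equiv_prod (hq : RInv.IsQuadEtale S R) :
    (IsField (R ⧸ (IsLocalRing.maximalIdeal S).map (algebraMap S R)) ∧
      Module.finrank (S ⧸ IsLocalRing.maximalIdeal S)
        (R ⧸ (IsLocalRing.maximalIdeal S).map (algebraMap S R)) = 2 ∧
      Algebra.IsSeparable (S ⧸ IsLocalRing.maximalIdeal S)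
        (R ⧸ (IsLocalRing.maximalIdeal S).map (algebraMap S R))) ∨
    Nonempty ((R ⧸ (IsLocalRing.maximalIdeal S).map (algebraMap S R))
      ≃ₐ[S ⧸ IsLocalRing.maximalIdeal S]
      ((S ⧸ IsLocalRing.maximalIdeal S) × (S ⧸ IsLocalRing.maximalIdeal S))) := by
  have hfin := hq.1
  have hproj := hq.2.1
  obtain ⟨b⟩ := exists_basis_of_isQuadEtale hq
  have hfree : Module.Free S R := Module.Free.of_basis b
  have h2 : Module.finrank (S ⧸ maximalIdeal S)
        (R ⧸ (maximalIdeal S).map (algebraMap S R)) = 2 := by
    rw [IsLocalRing.finrank_quotient_map, Module.finrank_eq_card_basis b]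
    rfl
  have hred := isReduced_quot hq
  have hfinQ := finite_quot hq
  have hunr := formallyUnramified_quot hq
  by_cases hF : IsField (R ⧸ (maximalIdeal S).map (algebraMap S R))
  · left
    refine ⟨hF, h2, ?_⟩
    let _ := hF.toField
    exact Algebra.FormallyUnramified.isSeparable (S ⧸ maximalIdeal S)
      (R ⧸ (maximalIdeal S).map (algebraMap S R))
  · right
    exact equiv_prod_of_not_isField _ _ h2 hF

end

end K867.Res
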