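import Groth.Agent.RInv.K867.TLoc
import Mathlib.LinearAlgebra.Matrix.NonsingularInverse
import Mathlib.Tactic.LinearCombination

/-!
Spreading out congruences of hermitian matrices.
-/

namespace K867.Spread

universe u v w

open scoped TensorProduct
open K867.TLoc Matrix

section P

variable {B : Type u} {A : Type v} [CommRing B] [CommRing A] [Algebra B A] (lam : A ≃ₐ[B] A)
  {n : ℕ} (h h' : Matrix (Fin n) (Fin n) A)

/-- `h` and `h'` become congruent over `C`. -/
def P (C : Type w) [CommRing C] [Algebra B C] : Prop :=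
  ∃ v : Matrix (Fin n) (Fin n) (C ⊗[B] A), IsUnit v ∧
    (v.map (Algebra.TensorProduct.congr (AlgEquiv.refl : C ≃ₐ[C] C) lam)).transpose *
      h.map (Algebra.TensorProduct.includeRight : A →ₐ[B] C ⊗[B] A) * v =
      h'.map (Algebra.TensorProduct.includeRight : A →ₐ[B] C ⊗[B] A)

variable {T : Submonoid B}

lemma map_congr_comm {X : Type*} {Y : Type*} [CommRing X] [CommRing Y] [Algebra B X] [Algebra B Y]
    (χ : X →ₐ[B] Y) (z : X ⊗[B] A) :
    Algebra.TensorProduct.map χ (AlgHom.id B A)
      ((Algebra.TensorProduct.congr (AlgEquiv.refl : X ≃ₐ[X] X) lam) z) =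
    (Algebra.TensorProduct.congr (AlgEquiv.refl : Y ≃ₐ[Y] Y) lam)
      (Algebra.TensorProduct.map χ (AlgHom.id B A) z) := by
  induction z with
  | zero => simp only [map_zero]
  | add x y hx hy => simp only [map_add, hx, hy]
  | tmul x y =>
    rw [Algebra.TensorProduct.map_tmul, Algebra.TensorProduct.congr_apply,
      Algebra.TensorProduct.congr_apply, Algebra.TensorProduct.map_tmul,
      Algebra.TensorProduct.map_tmul, Algebra.TensorProduct.map_tmul]
    rfl

theorem P_spread {X : Type u} {Y : Type w} [CommRing X] [CommRing Y] [Algebra B X] [Algebra B Y]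
    {ψ : X →ₐ[B] Y} (hψ : TLoc T ψ) (hP : P lam h h' Y) :
    ∃ t ∈ T, ∀ (C : Type u) [CommRing C] [Algebra B C] (_ : X →ₐ[B] C),
      IsUnit (algebraMap B C t) → P lam h h' C := by
  obtain ⟨v, hv, hvh⟩ := hP
  obtain ⟨v', hvv', -⟩ := isUnit_iff_exists.1 hv
  set F := (Algebra.TensorProduct.map ψ (AlgHom.id B A) : X ⊗[B] A →ₐ[B] Y ⊗[B] A) with hF
  have hFT : TLoc T F := hψ.tensor A
  have hFr : ∀ a : A, F (Algebra.TensorProduct.includeRight a) =
      Algebra.TensorProduct.includeRight a := by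
    intro a
    rw [hF, Algebra.TensorProduct.includeRight_apply, Algebra.TensorProduct.map_tmul, map_one]
    rfl
  -- common denominators
  obtain ⟨t, ht, W, hW⟩ := hFT.surj_family
    (fun x : Bool × Fin n × Fin n => if x.1 then v x.2.1 x.2.2 else v' x.2.1 x.2.2)
  set w : Matrix (Fin n) (Fin n) (X ⊗[B] A) := Matrix.of fun i j => W (true, i, j) with hw
  set w' : Matrix (Fin n) (Fin n) (X ⊗[B] A) := Matrix.of fun i j => W (false, i, j) with hw'
  set τ := algebraMap B (Y ⊗[B] A) t with hτ
  have hwv : w.map F = τ • v := by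
    ext i j
    exact (hW (true, i, j)).symm
  have hwv' : w'.map F = τ • v' := by
    ext i j
    exact (hW (false, i, j)).symm
  have hΛτ : ∀ (C : Type w) [CommRing C] [Algebra B C] (b : B),
      (Algebra.TensorProduct.congr (AlgEquiv.refl : C ≃ₐ[C] C) lam)
        (algebraMap B (C ⊗[B] A) b) = algebraMap B (C ⊗[B] A) b := by
    intro C _ _ b
    rw [IsScalarTower.algebraMap_apply B C (C ⊗[B] A), AlgEquiv.commutes]
  set ΛX := (Algebra.TensorProduct.congr (AlgEquiv.refl : X ≃ₐ[X] X) lam) with hΛX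
  set ΛY := (Algebra.TensorProduct.congr (AlgEquiv.refl : Y ≃ₐ[Y] Y) lam) with hΛY
  have hwΛ : (w.map ΛX).map F = τ • (v.map ΛY) := by
    have h1 : (w.map ΛX).map F = (w.map F).map ΛY := by
      ext i j
      exact map_congr_comm lam ψ (w i j)
    rw [h1, hwv]
    ext i j
    simp only [Matrix.map_apply, Matrix.smul_apply, smul_eq_mul, map_mul]
    rw [hτ, hΛτ Y t]
  have hhF : (h.map (Algebra.TensorProduct.includeRight : A →ₐ[B] X ⊗[B] A)).map F =
      h.map (Algebra.TensorProduct.includeRight : A →ₐ[B] Y ⊗[B] A) := by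
    ext i j; exact hFr _
  have hFalg : ∀ b, F (algebraMap B (X ⊗[B] A) b) = algebraMap B (Y ⊗[B] A) b := F.commutes
  -- the two identities over `Y`
  have id1 : (w * w').map F = ((algebraMap B (X ⊗[B] A) (t * t)) •
      (1 : Matrix (Fin n) (Fin n) (X ⊗[B] A))).map F := by
    rw [Matrix.map_mul, hwv, hwv', Matrix.smul_mul, Matrix.mul_smul, hvv', smul_smul]
    ext i j
    simp only [Matrix.map_apply, Matrix.smul_apply, smul_eq_mul, map_mul, Matrix.one_apply]
    rw [hFalg]
    split_ifs
    · rw [map_one]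
    · rw [map_zero]
  have id2 : ((w.map ΛX).transpose *
      h.map (Algebra.TensorProduct.includeRight : A →ₐ[B] X ⊗[B] A) * w).map F =
      ((algebraMap B (X ⊗[B] A) (t * t)) •
        h'.map (Algebra.TensorProduct.includeRight : A →ₐ[B] X ⊗[B] A)).map F := by
    have htr : (w.map ΛX).transpose.map F = ((w.map ΛX).map F).transpose := rfl
    rw [Matrix.map_mul, Matrix.map_mul, hwv, hhF, htr, hwΛ,
      Matrix.transpose_smul, Matrix.smul_mul, Matrix.mul_smul, Matrix.smul_mul, hvh, smul_smul]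
    ext i j
    simp only [Matrix.map_apply, Matrix.smul_apply, smul_eq_mul, map_mul]
    rw [hFalg, hFr]
  obtain ⟨t', ht', hkill⟩ := hFT.eq_family
    (fun x : Bool × Fin n × Fin n => if x.1 then (w * w') x.2.1 x.2.2 else
      ((w.map ΛX).transpose *
      h.map (Algebra.TensorProduct.includeRight : A →ₐ[B] X ⊗[B] A) * w) x.2.1 x.2.2)
    (fun x : Bool × Fin n × Fin n => if x.1 then ((algebraMap B (X ⊗[B] A) (t * t)) •
      (1 : Matrix (Fin n) (Fin n) (X ⊗[B] A))) x.2.1 x.2.2 else
      ((algebraMap B (X ⊗[B] A) (t * t)) •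
        h'.map (Algebra.TensorProduct.includeRight : A →ₐ[B] X ⊗[B] A)) x.2.1 x.2.2)
    (by
      rintro ⟨_ | _, i, j⟩
      · exact congrFun (congrFun id2 i) j
      · exact congrFun (congrFun id1 i) j)
  refine ⟨t' * t, mul_mem ht' ht, fun C _ _ χ hC => ?_⟩
  set G := (Algebra.TensorProduct.map χ (AlgHom.id B A) : X ⊗[B] A →ₐ[B] C ⊗[B] A) with hG
  have hGr : ∀ a : A, G (Algebra.TensorProduct.includeRight a) =
      Algebra.TensorProduct.includeRight a := by
    intro a
    rw [hG, Algebra.TensorProduct.includeRight_apply, Algebra.TensorProduct.map_tmul, map_one]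
    rfl
  have hGalg : ∀ b, G (algebraMap B (X ⊗[B] A) b) = algebraMap B (C ⊗[B] A) b := G.commutes
  rw [map_mul] at hC
  have htC : IsUnit (algebraMap B C t) := isUnit_of_mul_isUnit_right hC
  have ht'C : IsUnit (algebraMap B C t') := isUnit_of_mul_isUnit_left hC
  obtain ⟨c, hc⟩ := htC.exists_left_inv
  set γ : C ⊗[B] A := algebraMap C (C ⊗[B] A) c with hγ
  have hγt : γ * algebraMap B (C ⊗[B] A) t = 1 := by
    rw [IsScalarTower.algebraMap_apply B C (C ⊗[B] A), hγ, ← map_mul, hc, map_one]
  have ht'E : IsUnit (algebraMap B (C ⊗[B] A) t') := by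
    rw [IsScalarTower.algebraMap_apply B C (C ⊗[B] A)]
    exact ht'C.map _
  set ΛC := (Algebra.TensorProduct.congr (AlgEquiv.refl : C ≃ₐ[C] C) lam) with hΛC
  have hΛγ : ΛC γ = γ := by rw [hΛC, hγ, AlgEquiv.commutes]
  have e1 : (w * w').map G = (algebraMap B (C ⊗[B] A) (t * t)) •
      (1 : Matrix (Fin n) (Fin n) (C ⊗[B] A)) := by
    ext i j
    have h1 := congrArg G (hkill (true, i, j))
    simp only [if_true, map_mul, hGalg] at h1
    have h2 := ht'E.mul_left_cancel h1
    rw [Matrix.map_apply, h2, Matrix.smul_apply, Matrix.smul_apply, smul_eq_mul, smul_eq_mul,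
      map_mul, map_mul, map_mul, hGalg, Matrix.one_apply, Matrix.one_apply]
    split_ifs
    · rw [map_one]
    · rw [map_zero]
  have e2 : ((w.map ΛX).transpose *
      h.map (Algebra.TensorProduct.includeRight : A →ₐ[B] X ⊗[B] A) * w).map G =
      (algebraMap B (C ⊗[B] A) (t * t)) •
        h'.map (Algebra.TensorProduct.includeRight : A →ₐ[B] C ⊗[B] A) := by
    ext i j
    have h1 := congrArg G (hkill (false, i, j))
    simp only [Bool.false_eq_true, if_false, map_mul, hGalg] at h1
    have h2 := ht'E.mul_left_cancel h1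
    rw [Matrix.map_apply, h2, Matrix.smul_apply, Matrix.smul_apply, smul_eq_mul, smul_eq_mul,
      map_mul, map_mul, map_mul, hGalg, Matrix.map_apply, Matrix.map_apply, hGr]
  have hwΛC : (w.map ΛX).map G = (w.map G).map ΛC := by
    ext i j
    exact map_congr_comm lam χ (w i j)
  have hhG : (h.map (Algebra.TensorProduct.includeRight : A →ₐ[B] X ⊗[B] A)).map G =
      h.map (Algebra.TensorProduct.includeRight : A →ₐ[B] C ⊗[B] A) := by
    ext i j; exact hGr _
  have hγ2 : γ * γ * algebraMap B (C ⊗[B] A) (t * t) = 1 := by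
    rw [map_mul]
    linear_combination (γ * algebraMap B (C ⊗[B] A) t + 1) * hγt
  refine ⟨γ • w.map G, ?_, ?_⟩
  · refine isUnit_iff_exists.2 ⟨γ • w'.map G, ?_⟩
    have h1 : (γ • w.map G) * (γ • w'.map G) = 1 := by
      rw [Matrix.smul_mul, Matrix.mul_smul, ← Matrix.map_mul, e1, smul_smul, smul_smul, hγ2,
        one_smul]
    exact ⟨h1, mul_eq_one_comm.1 h1⟩
  · have h1 : (γ • w.map G).map ΛC = γ • ((w.map G).map ΛC) := by
      ext i j
      simp only [Matrix.map_apply, Matrix.smul_apply, smul_eq_mul, map_mul]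
      rw [hΛγ]
    have htr : ((w.map ΛX).map G).transpose = (w.map ΛX).transpose.map G := rfl
    rw [h1, Matrix.transpose_smul, Matrix.smul_mul, Matrix.mul_smul, Matrix.smul_mul, smul_smul,
      ← hwΛC, htr, ← hhG, ← Matrix.map_mul, ← Matrix.map_mul, e2, smul_smul, hγ2,
      one_smul]

end P

/-- generic spreading out of a property known on the members of a standard open cover. -/
theorem spread_cover {B : Type u} [CommRing B] {T : Submonoid B}
    (P : ∀ (C : Type u) [CommRing C] [Algebra B C], Prop)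
    (hP : ∀ (X Y : Type u) [CommRing X] [CommRing Y] [Algebra B X] [Algebra B Y]
      (ψ : X →ₐ[B] Y), TLoc T ψ → P Y →
      ∃ t ∈ T, ∀ (C : Type u) [CommRing C] [Algebra B C] (_ : X →ₐ[B] C),
        IsUnit (algebraMap B C t) → P C)
    {Q₀ Q : Type u} [CommRing Q₀] [CommRing Q] [Algebra B Q₀] [Algebra B Q]
    (φ : Q₀ →ₐ[B] Q) (hφ : TLoc T φ) {r : ℕ} (f : Fin r → Q)
    (hf : Ideal.span (Set.range f) = ⊤)
    (hPf : ∀ (i : Fin r) (C : Type u) [CommRing C] [Algebra B C] [Algebra Q C]
      [IsScalarTower B Q C] [IsLocalization.Away (f i) C], P C) :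
    ∃ (f₀ : Fin r → Q₀), ∃ t ∈ T, ∀ (Q' : Type u) [CommRing Q'] [Algebra B Q']
      (θ : Q₀ →ₐ[B] Q'), IsUnit (algebraMap B Q' t) →
      Ideal.span (Set.range fun i => θ (f₀ i)) = ⊤ ∧
      ∀ (i : Fin r) (C : Type u) [CommRing C] [Algebra B C] [Algebra Q' C]
        [IsScalarTower B Q' C] [IsLocalization.Away (θ (f₀ i)) C], P C := by
  classical
  -- lift the `f i`
  obtain ⟨t₁, ht₁, f₀, hf₀⟩ := hφ.surj_family f
  have hu₁ := hφ.unit t₁ ht₁
  -- the unit ideal
  have hspan : ∃ b ∈ T, algebraMap B Q₀ b ∈ Ideal.span (Set.range f₀) := by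
    have h1 : (1 : Q) ∈ (Ideal.span (Set.range f₀)).map φ := by
      have h2 : Ideal.span (Set.range f) ≤ (Ideal.span (Set.range f₀)).map φ := by
        rw [Ideal.span_le]
        rintro _ ⟨i, rfl⟩
        rw [SetLike.mem_coe, ← Ideal.unit_mul_mem_iff_mem _ hu₁, hf₀]
        exact Ideal.mem_map_of_mem _ (Ideal.subset_span ⟨i, rfl⟩)
      apply h2
      rw [hf]
      trivial
    obtain ⟨t, ht, a, ha, h3⟩ := hφ.mem_map _ h1
    rw [mul_one, ← AlgHom.commutes φ] at h3
    obtain ⟨t', ht', h4⟩ := hφ.eq_family (fun _ : Unit => algebraMap B Q₀ t) (fun _ => a)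
      (fun _ => h3)
    refine ⟨t' * t, mul_mem ht' ht, ?_⟩
    rw [map_mul, h4 ()]
    exact Ideal.mul_mem_left _ _ ha
  obtain ⟨b, hb, hbs⟩ := hspan
  -- the data
  have hdata : ∀ i, ∃ t ∈ T, ∀ (C : Type u) [CommRing C] [Algebra B C]
      (_ : Localization.Away (f₀ i) →ₐ[B] C), IsUnit (algebraMap B C t) → P C := by
    intro i
    have hass : Associated (f i) (φ (f₀ i)) := by
      rw [← hf₀ i, mul_comm]
      exact (associated_mul_unit_right _ _ hu₁)
    have haw : IsLocalization.Away (φ (f₀ i)) (Localization.Away (f i)) :=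
      IsLocalization.Away.of_associated hass
    have hmap : ∀ y : Submonoid.powers (f₀ i),
        IsUnit ((IsScalarTower.toAlgHom B Q (Localization.Away (f i))).comp φ y) := by
      rintro ⟨_, k, rfl⟩
      simp only [map_pow]
      refine IsUnit.pow _ ?_
      exact IsLocalization.Away.algebraMap_isUnit (φ (f₀ i))
    let ψ : Localization.Away (f₀ i) →ₐ[B] Localization.Away (f i) :=
      IsLocalization.liftAlgHom (M := Submonoid.powers (f₀ i))
        (f := (IsScalarTower.toAlgHom B Q (Localization.Away (f i))).comp φ) hmap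
    have hψ : TLoc T ψ := hφ.away (f₀ i) (Localization.Away (f₀ i)) (Localization.Away (f i)) ψ
      (fun x => by
        change IsLocalization.liftAlgHom (M := Submonoid.powers (f₀ i)) (S := Localization.Away (f₀ i)) hmap (algebraMap Q₀ _ x) = _
        rw [IsLocalization.liftAlgHom_apply, IsLocalization.lift_eq]
        rfl)
    exact hP _ _ ψ hψ (hPf i (Localization.Away (f i)))
  choose ti hti hPi using hdata
  refine ⟨f₀, b * ∏ i, ti i, mul_mem hb (prod_mem fun i _ => hti i),
    fun Q' _ _ θ hu => ⟨?_, ?_⟩⟩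
  · rw [map_mul] at hu
    have hub : IsUnit (algebraMap B Q' b) := isUnit_of_mul_isUnit_left hu
    refine Ideal.eq_top_of_isUnit_mem _ ?_ hub
    have h1 := Ideal.mem_map_of_mem θ hbs
    rw [AlgHom.commutes, Ideal.map_span, ← Set.range_comp] at h1
    exact h1
  · intro i C _ _ _ _ _
    have hmap : ∀ y : Submonoid.powers (f₀ i),
        IsUnit ((IsScalarTower.toAlgHom B Q' C).comp θ y) := by
      rintro ⟨_, k, rfl⟩
      simp only [map_pow]
      refine IsUnit.pow _ ?_
      exact IsLocalization.Away.algebraMap_isUnit (θ (f₀ i))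
    refine hPi i C (IsLocalization.liftAlgHom (M := Submonoid.powers (f₀ i))
        (f := (IsScalarTower.toAlgHom B Q' C).comp θ) hmap) ?_
    rw [map_mul] at hu
    have hui : IsUnit (algebraMap B Q' (∏ i, ti i)) := isUnit_of_mul_isUnit_right hu
    rw [← Finset.prod_erase_mul Finset.univ ti (Finset.mem_univ i), map_mul] at hui
    rw [IsScalarTower.algebraMap_apply B Q' C]
    exact (isUnit_of_mul_isUnit_right hui).map _

end K867.Spread
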