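import Groth.Agent.RInv.K867.Spread

/-!
Spreading out the square-root covers.
-/

namespace K867.SpreadQ

universe u v

open scoped TensorProduct
open K867.TLoc K867.Spread

/-- adjoining square roots. -/
abbrev Qr (B₁ : Type u) [CommRing B₁] {l : ℕ} (s : Fin l → B₁ˣ) : Type u :=
  MvPolynomial (Fin l) B₁ ⧸ Ideal.span (Set.range fun k : Fin l =>
    MvPolynomial.X k ^ 2 - MvPolynomial.C (s k : B₁))

section

variable {B : Type u} [CommRing B] {B₁ B₂ : Type u} [CommRing B₁] [CommRing B₂] [Algebra B B₁]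
  [Algebra B B₂]

lemma map_ideal (g : B₁ →ₐ[B] B₂) {l : ℕ} (s₁ : Fin l → B₁ˣ) (s₂ : Fin l → B₂ˣ)
    (hs : ∀ k, g (s₁ k) = s₂ k) :
    Ideal.span (Set.range fun k : Fin l =>
      (MvPolynomial.X k ^ 2 - MvPolynomial.C (s₂ k : B₂) : MvPolynomial (Fin l) B₂)) =
    (Ideal.span (Set.range fun k : Fin l =>
      (MvPolynomial.X k ^ 2 - MvPolynomial.C (s₁ k : B₁) : MvPolynomial (Fin l) B₁))).map
      (MvPolynomial.mapAlgHom g) := by
  rw [Ideal.map_span, ← Set.range_comp]
  congr 2
  funext k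
  simp only [Function.comp_apply, map_sub, map_pow, MvPolynomial.mapAlgHom_apply,
    MvPolynomial.map_X, MvPolynomial.map_C]
  congr 2
  exact (hs k).symm

lemma exists_qmap (g : B₁ →ₐ[B] B₂) {l : ℕ} (s₁ : Fin l → B₁ˣ) (s₂ : Fin l → B₂ˣ)
    (hs : ∀ k, g (s₁ k) = s₂ k) :
    ∃ φ : Qr B₁ s₁ →ₐ[B] Qr B₂ s₂, ∀ T : Submonoid B, TLoc T g → TLoc T φ := by
  have h1 := map_ideal g s₁ s₂ hs
  refine ⟨Ideal.quotientMapₐ _ (MvPolynomial.mapAlgHom g) (Ideal.map_le_iff_le_comap.1 h1.ge), ?_⟩
  intro T hT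
  exact (hT.mvPolynomial (Fin l)).quotient _ _ h1 _

/-- units of `B_p` descend to some `B_b`. -/
lemma exists_units (p : Ideal B) [p.IsPrime] {l : ℕ} (s : Fin l → (Localization.AtPrime p)ˣ) :
    ∃ b ∈ p.primeCompl, ∃ (s₀ : Fin l → (Localization.Away b)ˣ)
      (φ : Localization.Away b →ₐ[B] Localization.AtPrime p), TLoc p.primeCompl φ ∧
      ∀ k, φ (s₀ k) = s k := by
  classical
  have h1 : ∀ k, ∃ σ ∈ p.primeCompl, ∃ τ ∈ p.primeCompl,
      (s k : Localization.AtPrime p) * algebraMap B _ τ = algebraMap B _ σ := by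
    intro k
    obtain ⟨⟨σ, τ⟩, h⟩ := IsLocalization.surj p.primeCompl (s k : Localization.AtPrime p)
    refine ⟨σ, ?_, τ, τ.2, h⟩
    rw [← IsLocalization.AtPrime.isUnit_to_map_iff (Localization.AtPrime p) p σ]
    simp only at h
    rw [← h]
    exact (s k).isUnit.mul (IsLocalization.map_units _ τ)
  choose σ hσ τ hτ hst using h1
  set b := ∏ k, σ k * τ k with hb
  have hbT : b ∈ p.primeCompl := prod_mem fun k _ => mul_mem (hσ k) (hτ k)
  have hbu : IsUnit (algebraMap B (Localization.Away b) b) :=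
    IsLocalization.Away.algebraMap_isUnit b
  have hk : ∀ k, IsUnit (algebraMap B (Localization.Away b) (σ k)) ∧
      IsUnit (algebraMap B (Localization.Away b) (τ k)) := by
    intro k
    have h2 : IsUnit (algebraMap B (Localization.Away b) (σ k * τ k)) :=
      isUnit_of_dvd_unit (map_dvd (algebraMap B (Localization.Away b))
        (Finset.dvd_prod_of_mem (fun k => σ k * τ k) (Finset.mem_univ k))) hbu
    rw [map_mul] at h2
    exact ⟨isUnit_of_mul_isUnit_left h2, isUnit_of_mul_isUnit_right h2⟩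
  have hmap : ∀ y : Submonoid.powers b,
      IsUnit ((Algebra.ofId B (Localization.AtPrime p)) y) := by
    rintro ⟨_, k, rfl⟩
    simp only [map_pow]
    exact IsUnit.pow _ (IsLocalization.map_units (Localization.AtPrime p)
      (⟨b, hbT⟩ : p.primeCompl))
  let φ : Localization.Away b →ₐ[B] Localization.AtPrime p :=
    IsLocalization.liftAlgHom (M := Submonoid.powers b)
      (f := Algebra.ofId B (Localization.AtPrime p)) hmap
  refine ⟨b, hbT, fun k => (hk k).1.unit * (hk k).2.unit⁻¹, φ,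
    tloc_of_isLocalization (M := Submonoid.powers b) _ _ φ, fun k => ?_⟩
  have hu : IsUnit (algebraMap B (Localization.AtPrime p) (τ k)) :=
    IsLocalization.map_units _ (⟨τ k, hτ k⟩ : p.primeCompl)
  apply hu.mul_right_cancel
  rw [hst, ← φ.commutes (τ k), ← map_mul, Units.val_mul, mul_assoc]
  have h3 : (((hk k).2.unit⁻¹ : (Localization.Away b)ˣ) : Localization.Away b) *
      algebraMap B (Localization.Away b) (τ k) = 1 := (hk k).2.val_inv_mul
  rw [h3, mul_one, IsUnit.unit_spec, φ.commutes]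

end

/-- S17364 -/
theorem spread_hermitian {B : Type u} {A : Type v} [CommRing B] [CommRing A]
    [Algebra B A] (lam : A ≃ₐ[B] A) {n : ℕ} (h h' : Matrix (Fin n) (Fin n) A)
    (p : Ideal B) [p.IsPrime] {l : ℕ} (s : Fin l → (Localization.AtPrime p)ˣ) {r : ℕ}
    (f : Fin r → Qr (Localization.AtPrime p) s) (hf : Ideal.span (Set.range f) = ⊤)
    (hP : ∀ (i : Fin r) (C : Type u) [CommRing C] [Algebra B C]
      [Algebra (Qr (Localization.AtPrime p) s) C]
      [IsScalarTower B (Qr (Localization.AtPrime p) s) C] [IsLocalization.Away (f i) C],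
      P lam h h' C) :
    ∃ b : B, b ∉ p ∧ ∃ (l : ℕ) (s : Fin l → (Localization.Away b)ˣ) (r : ℕ)
      (f : Fin r → Qr (Localization.Away b) s), Ideal.span (Set.range f) = ⊤ ∧
      ∀ (i : Fin r) (C : Type u) [CommRing C] [Algebra B C]
      [Algebra (Qr (Localization.Away b) s) C]
      [IsScalarTower B (Qr (Localization.Away b) s) C] [IsLocalization.Away (f i) C],
      P lam h h' C := by
  obtain ⟨b₀, hb₀, s₀, φ₀, hφ₀, hs₀⟩ := exists_units p s
  obtain ⟨φ, hφ⟩ := exists_qmap φ₀ s₀ s hs₀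
  obtain ⟨f₀, t, ht, H⟩ := spread_cover (T := p.primeCompl) (fun C => P lam h h' C)
    (fun X Y _ _ _ _ ψ hψ hPY => P_spread lam h h' hψ hPY) φ (hφ _ hφ₀) f hf hP
  have hmap : ∀ y : Submonoid.powers b₀,
      IsUnit ((Algebra.ofId B (Localization.Away (b₀ * t))) y) := by
    rintro ⟨_, k, rfl⟩
    simp only [map_pow]
    refine IsUnit.pow _ ?_
    have : IsUnit (algebraMap B (Localization.Away (b₀ * t)) (b₀ * t)) :=
      IsLocalization.Away.algebraMap_isUnit _
    rw [map_mul] at this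
    exact isUnit_of_mul_isUnit_left this
  let g : Localization.Away b₀ →ₐ[B] Localization.Away (b₀ * t) :=
    IsLocalization.liftAlgHom (M := Submonoid.powers b₀)
      (f := Algebra.ofId B (Localization.Away (b₀ * t))) hmap
  let s' : Fin l → (Localization.Away (b₀ * t))ˣ := fun k => Units.map (g : _ →* _) (s₀ k)
  obtain ⟨θ, -⟩ := exists_qmap g s₀ s' (fun k => rfl)
  have hu : IsUnit (algebraMap B (Qr (Localization.Away (b₀ * t)) s') t) := by
    have h1 : IsUnit (algebraMap B (Localization.Away (b₀ * t)) (b₀ * t)) :=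
      IsLocalization.Away.algebraMap_isUnit _
    rw [map_mul] at h1
    have h2 := isUnit_of_mul_isUnit_right h1
    rw [IsScalarTower.algebraMap_apply B (Localization.Away (b₀ * t))]
    exact h2.map _
  obtain ⟨h1, h2⟩ := H (Qr (Localization.Away (b₀ * t)) s') θ hu
  exact ⟨b₀ * t, p.primeCompl.mul_mem hb₀ ht, l, s', r, fun i => θ (f₀ i), h1, h2⟩

end K867.SpreadQ
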