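import Groth.Agent.RInv.K867.Loc
import Groth.Agent.RInv.K867.HermDiag
import Groth.Agent.RInv.K867.BaseChange
import Mathlib.RingTheory.Localization.Away.Basic
import Mathlib.Algebra.MvPolynomial.Basic

/-!
A `2 × 2` skew-hermitian matrix congruent to the standard alternating one modulo the radical
becomes congruent to it after adjoining a square root.
-/

namespace K867.Sqrt

universe u v

open Matrix K867.Basic K867.Loc K867.Cong K867.Diag K867.HermDiag
open scoped TensorProduct

section

variable {A : Type v} [CommRing A] {lam : A ≃+* A}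

/-- the normalised case. -/
lemma cong_std_aux (h : Matrix (Fin 2) (Fin 2) A) (H : Herm lam (-1) h)
    (h01 : h 0 1 = 1) {σ τ u c : A} (hτ : lam τ = τ) (hu : lam u = u)
    (hc : lam c = c) (hστ : σ * τ = 1) (huσ : (1 + σ) * u = -1) (hc2 : 2 * c = 1)
    (hs : σ * σ = 1 + h 0 0 * h 1 1) : Cong lam h (std A) := by
  have h10 : h 1 0 = -1 := by
    rw [← H.apply 1 0, h01, map_one, mul_one]
  have ha : lam (h 0 0) = - h 0 0 := by
    have := H.apply 0 0
    rw [neg_one_mul] at this
    rw [← this, neg_neg, this]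
  have hd : lam (h 1 1) = - h 1 1 := by
    have := H.apply 1 1
    rw [neg_one_mul] at this
    rw [← this, neg_neg, this]
  set a := h 0 0
  set d := h 1 1
  set w := c * d * (τ * τ) with hw
  have hlw : lam w = -w := by
    rw [hw, map_mul, map_mul, map_mul, hc, hd, hτ]; ring
  have hlau : lam (a * u) = -(a * u) := by rw [map_mul, ha, hu]; ring
  refine cong_intro lam (v := !![1, w; a * u, τ + w * (a * u)])
    (w := !![1 + σ * (w * (a * u)), -(σ * w); -(σ * (a * u)), σ]) ?_ ?_
  · ext i j
    fin_cases i <;> fin_cases j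
    · simp [Matrix.mul_apply, Fin.sum_univ_two]
      ring
    · simp [Matrix.mul_apply, Fin.sum_univ_two]
      ring
    · simp [Matrix.mul_apply, Fin.sum_univ_two]
      linear_combination (-(a * u)) * hστ
    · simp [Matrix.mul_apply, Fin.sum_univ_two]
      linear_combination hστ
  · have hv : adj lam !![1, w; a * u, τ + w * (a * u)] =
        !![1, -(a * u); -w, τ + w * (a * u)] := by
      ext i j
      fin_cases i <;> fin_cases j
      · exact map_one lam
      · exact hlau
      · exact hlw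
      · change lam (τ + w * (a * u)) = _
        rw [map_add, map_mul, hlw, hlau, hτ]
        simp
    have hh : h = !![a, 1; -1, d] := by
      ext i j
      fin_cases i <;> fin_cases j
      · rfl
      · exact h01
      · exact h10
      · rfl
    -- the two key relations
    have k1 : 1 + 2 * u - a * d * (u * u) = 0 := by
      have : a * d = (σ - 1) * (1 + σ) := by linear_combination -hs
      rw [this]
      linear_combination (1 - (σ - 1) * u) * huσ
    have k2 : 1 - a * d * u = σ := by
      have : a * d = (σ - 1) * (1 + σ) := by linear_combination -hs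
      rw [this]
      linear_combination (-(σ - 1)) * huσ
    have k3 : 2 * w = d * (τ * τ) := by
      rw [hw]; linear_combination (d * (τ * τ)) * hc2
    rw [hv, hh]
    ext i j
    fin_cases i <;> fin_cases j
    · simp [Matrix.mul_apply, Fin.sum_univ_two, std]
      linear_combination a * k1
    · simp [Matrix.mul_apply, Fin.sum_univ_two, std]
      linear_combination (w * a) * k1 + τ * k2 + hστ
    · simp [Matrix.mul_apply, Fin.sum_univ_two, std]
      linear_combination (-w * a) * k1 - τ * k2 - hστ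
    · simp [Matrix.mul_apply, Fin.sum_univ_two, std]
      linear_combination (-w * w * a) * k1 - (2 * w * τ) * k2 - (2 * w) * hστ - k3

lemma cong_std (h : Matrix (Fin 2) (Fin 2) A) (H : Herm lam (-1) h)
    (hlam : Function.Involutive lam) {b' σ τ u c : A}
    (h01 : h 0 1 * b' = 1) (hτ : lam τ = τ) (hu : lam u = u)
    (hc : lam c = c) (hστ : σ * τ = 1) (huσ : (1 + σ) * u = -1) (hc2 : 2 * c = 1)
    (hs : σ * σ = 1 + h 0 0 * h 1 1 * (b' * lam b')) : Cong lam h (std A) := by
  have h1 := cong_diagonal (lam := lam) (c := ![1, b']) (d := ![1, h 0 1]) (by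
    intro i
    fin_cases i
    · exact mul_one 1
    · change b' * h 0 1 = 1
      rw [mul_comm]; exact h01) h
  refine h1.trans (cong_std_aux _ (H.cong hlam h1) (σ := σ) (τ := τ) (u := u) (c := c)
    ?_ hτ hu hc hστ huσ hc2 ?_)
  · change lam 1 * h 0 1 * b' = 1
    rw [map_one, one_mul, h01]
  · change σ * σ = 1 + (lam 1 * h 0 0 * 1) * (lam b' * h 1 1 * b')
    rw [map_one, hs]; ring

end

section

variable {B : Type u} {A : Type v} [CommRing B] [CommRing A] [Algebra B A] {lam : A ≃ₐ[B] A}

/-- the statement over a `B`-algebra `C` containing a suitable square root. -/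
lemma cong_std_baseChange (hlam : Function.Involutive lam)
    (h : Matrix (Fin 2) (Fin 2) A) (H : Herm lam.toRingEquiv (-1) h) {b' : A}
    (h01 : h 0 1 * b' = 1) {s s' c : B} (hss : s * s' = 1) (hc2 : 2 * c = 1)
    (hs : algebraMap B A s = 1 + h 0 0 * h 1 1 * (b' * lam b'))
    (C : Type u) [CommRing C] [Algebra B C] {σ : C} (hσ : σ * σ = algebraMap B C s)
    (huσ : IsUnit (1 + σ)) :
    ∃ v : Matrix (Fin 2) (Fin 2) (C ⊗[B] A), IsUnit v ∧
        (v.map (Algebra.TensorProduct.congr (AlgEquiv.refl : C ≃ₐ[C] C) lam)).transpose *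
          h.map (Algebra.TensorProduct.includeRight : A →ₐ[B] C ⊗[B] A) * v
          = (Matrix.of ![![(0 : A), 1], ![-1, 0]]).map
            (Algebra.TensorProduct.includeRight : A →ₐ[B] C ⊗[B] A) := by
  set lam' : C ⊗[B] A ≃+* C ⊗[B] A :=
    (Algebra.TensorProduct.congr (AlgEquiv.refl : C ≃ₐ[C] C) lam).toRingEquiv with hlam'
  have hl : ∀ (x : C) (y : A), lam' (x ⊗ₜ y) = x ⊗ₜ lam y := by
    intro x y
    change (Algebra.TensorProduct.congr (AlgEquiv.refl : C ≃ₐ[C] C) lam) (x ⊗ₜ y) = _
    rw [Algebra.TensorProduct.congr_apply, Algebra.TensorProduct.map_tmul]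
    rfl
  have hinv : Function.Involutive lam' := by
    intro z
    induction z with
    | zero => rw [map_zero, map_zero]
    | add x y hx hy => rw [map_add, map_add, hx, hy]
    | tmul x y => rw [hl, hl, hlam]
  have hl1 : ∀ x : C, lam' (x ⊗ₜ (1 : A)) = x ⊗ₜ 1 := by
    intro x; rw [hl, map_one]
  have hm : ∀ x y : C, (x ⊗ₜ[B] (1 : A)) * (y ⊗ₜ 1) = (x * y) ⊗ₜ 1 := by
    intro x y; rw [Algebra.TensorProduct.tmul_mul_tmul, mul_one]
  have hone : (1 : C ⊗[B] A) = (1 : C) ⊗ₜ 1 := rfl
  obtain ⟨u0, hu0⟩ := huσ.exists_right_inv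
  set φ := (Algebra.TensorProduct.includeRight : A →ₐ[B] C ⊗[B] A) with hφ
  have hφl : ∀ x, lam' (φ x) = φ (lam x) := by
    intro x; exact hl 1 x
  have H' : Herm lam' (-1) (h.map φ) := by
    ext i j
    change (-1) * lam' (φ (h j i)) = φ (h i j)
    rw [hφl, ← H.apply i j, map_mul, map_neg, map_one]
    rfl
  have hbt : ∀ x : B, (algebraMap B C x) ⊗ₜ[B] (1 : A) = φ (algebraMap B A x) := by
    intro x
    rw [hφ, Algebra.TensorProduct.includeRight_apply, Algebra.algebraMap_eq_smul_one,
      Algebra.algebraMap_eq_smul_one, TensorProduct.smul_tmul]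
  have key : Cong lam' (h.map φ) (std (C ⊗[B] A)) := by
    refine cong_std (h.map φ) H' hinv (b' := φ b') (σ := σ ⊗ₜ 1)
      (τ := (σ * algebraMap B C s') ⊗ₜ 1) (u := (-u0) ⊗ₜ 1) (c := (algebraMap B C c) ⊗ₜ 1)
      ?_ (hl1 _) (hl1 _) (hl1 _) ?_ ?_ ?_ ?_
    · rw [Matrix.map_apply, ← map_mul, h01, map_one]
    · rw [hm, ← mul_assoc, hσ, ← map_mul, hss, map_one]
      rfl
    · rw [hone, ← TensorProduct.add_tmul, hm, mul_neg, hu0, TensorProduct.neg_tmul]
    · have : (2 : C ⊗[B] A) = (2 : C) ⊗ₜ 1 := by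
        rw [← one_add_one_eq_two, ← one_add_one_eq_two, TensorProduct.add_tmul]
        rfl
      rw [this, hm]
      have h2 : (2 : C) * algebraMap B C c = 1 := by
        rw [← map_one (algebraMap B C), ← hc2, map_mul, map_ofNat]
      rw [h2]; rfl
    · rw [hm, hσ, hbt, hs, map_add, map_one, map_mul, map_mul, map_mul, hφl]
      rfl
  obtain ⟨v, hv, hv2⟩ := (cong_iff lam' _ _).1 key
  refine ⟨v, hv, ?_⟩
  refine hv2.trans ?_
  ext i j
  fin_cases i <;> fin_cases j
  · exact (map_zero φ).symm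
  · exact (map_one φ).symm
  · change (-1 : C ⊗[B] A) = φ (-1)
    rw [map_neg, map_one]
  · exact (map_zero φ).symm

open MvPolynomial in
/-- S17363 -/
theorem exists_sqrt_cover (hlam : ∀ a, lam (lam a) = a)
    (hB : RInv.IsFixedRing B A lam.toRingEquiv)
    [IsLocalRing B] (hid : ∀ a : A, lam a - a ∈ Ring.jacobson A) (h2 : IsUnit (2 : A))
    (h : Matrix (Fin 2) (Fin 2) A) (herm : -(h.map lam).transpose = h)
    (hJ : ∀ i j : Fin 2, h i j - Matrix.of ![![(0 : A), 1], ![-1, 0]] i j ∈ Ring.jacobson A) :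
    ∃ (s t : Bˣ) (r : ℕ) (f : Fin r → (MvPolynomial (Fin 2) B ⧸ Ideal.span ({MvPolynomial.X 0 ^ 2 - MvPolynomial.C (s : B), MvPolynomial.X 1 ^ 2 - MvPolynomial.C (t : B)} : Set (MvPolynomial (Fin 2) B)))),
      Ideal.span (Set.range f) = ⊤ ∧
      ∀ i : Fin r, ∃ v : Matrix (Fin 2) (Fin 2) (Localization.Away (f i) ⊗[B] A), IsUnit v ∧
        (v.map (Algebra.TensorProduct.congr (AlgEquiv.refl : Localization.Away (f i) ≃ₐ[Localization.Away (f i)] Localization.Away (f i)) lam)).transpose * h.map (Algebra.TensorProduct.includeRight : A →ₐ[B] Localization.Away (f i) ⊗[B] A) * v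
          = (Matrix.of ![![(0 : A), 1], ![-1, 0]]).map (Algebra.TensorProduct.includeRight : A →ₐ[B] Localization.Away (f i) ⊗[B] A) := by
  have hloc := isLocalRing_of_forall (lam := lam.toRingEquiv) hlam hB hid
  have hJM : Ring.jacobson A = IsLocalRing.maximalIdeal A :=
    IsLocalRing.ringJacobson_eq_maximalIdeal A
  have H : Herm lam.toRingEquiv (-1) h := by
    rw [Herm, neg_smul, one_smul]; exact herm
  -- `h 0 1` is a unit
  have hb : IsUnit (h 0 1) := by
    by_contra hcon
    have h1 := (IsLocalRing.mem_maximalIdeal _).2 hcon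
    have h3 := hJ 0 1
    rw [hJM] at h3
    have h4 := Ideal.sub_mem _ h1 h3
    change h 0 1 - (h 0 1 - 1) ∈ _ at h4
    rw [sub_sub_cancel] at h4
    exact (Ideal.ne_top_iff_one _).1 (IsLocalRing.maximalIdeal.isMaximal A).ne_top h4
  obtain ⟨b', hb'⟩ := hb.exists_right_inv
  have ha : lam (h 0 0) = - h 0 0 := by
    have := H.apply 0 0
    rw [neg_one_mul] at this
    have h3 : lam.toRingEquiv (h 0 0) = - h 0 0 := by rw [← this, neg_neg, this]
    exact h3
  have hd : lam (h 1 1) = - h 1 1 := by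
    have := H.apply 1 1
    rw [neg_one_mul] at this
    have h3 : lam.toRingEquiv (h 1 1) = - h 1 1 := by rw [← this, neg_neg, this]
    exact h3
  obtain ⟨δ, hδ⟩ : ∃ δ : B, algebraMap B A δ = h 0 0 * h 1 1 * (b' * lam b') := by
    refine (hB.2 _).1 ?_
    change lam _ = _
    rw [map_mul, map_mul, map_mul, ha, hd, hlam]
    ring
  have hδm : δ ∈ IsLocalRing.maximalIdeal B := by
    refine mem_maximalIdeal_of_mem_jacobson (lam := lam.toRingEquiv) hB δ ?_
    rw [hδ]
    refine Ideal.mul_mem_right _ _ (Ideal.mul_mem_right _ _ ?_)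
    have := hJ 0 0
    change h 0 0 - 0 ∈ _ at this
    rwa [sub_zero] at this
  have hsu : IsUnit (1 + δ) := by
    by_contra hcon
    have h1 := (IsLocalRing.mem_maximalIdeal _).2 hcon
    have h4 := Ideal.sub_mem _ h1 hδm
    rw [add_sub_cancel_right] at h4
    exact (Ideal.ne_top_iff_one _).1 (IsLocalRing.maximalIdeal.isMaximal B).ne_top h4
  obtain ⟨s, hs⟩ := hsu
  have h2B : IsUnit (2 : B) := by
    by_contra hcon
    have h1 := (IsLocalRing.mem_maximalIdeal _).2 hcon
    have := isIntegral (lam := lam.toRingEquiv) hlam hB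
    rw [← comap_eq_maximalIdeal (S := B) (IsLocalRing.maximalIdeal A), Ideal.mem_comap,
      map_ofNat] at h1
    exact (IsLocalRing.mem_maximalIdeal _).1 h1 h2
  obtain ⟨c, hc⟩ := h2B.exists_right_inv
  set I := Ideal.span ({MvPolynomial.X 0 ^ 2 - MvPolynomial.C (s : B),
    MvPolynomial.X 1 ^ 2 - MvPolynomial.C ((1 : Bˣ) : B)} : Set (MvPolynomial (Fin 2) B)) with hI
  set x : MvPolynomial (Fin 2) B ⧸ I := Ideal.Quotient.mk I (X 0) with hx
  have hxx : x * x = algebraMap B (MvPolynomial (Fin 2) B ⧸ I) s := by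
    rw [IsScalarTower.algebraMap_apply B (MvPolynomial (Fin 2) B) (MvPolynomial (Fin 2) B ⧸ I),
      Ideal.Quotient.algebraMap_eq, MvPolynomial.algebraMap_eq, hx, ← map_mul, ← sub_eq_zero,
      ← map_sub, Ideal.Quotient.eq_zero_iff_mem, ← pow_two]
    exact Ideal.subset_span (Or.inl rfl)
  let e : Fin 2 → MvPolynomial (Fin 2) B ⧸ I := ![x, -x]
  have hee : ∀ i, e i * e i = algebraMap B (MvPolynomial (Fin 2) B ⧸ I) s := by
    intro i
    fin_cases i
    · exact hxx
    · change (-x) * (-x) = _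
      linear_combination hxx
  refine ⟨s, 1, 2, fun i => 1 + e i, ?_, ?_⟩
  · rw [Ideal.eq_top_iff_one]
    have h1 : (1 : MvPolynomial (Fin 2) B ⧸ I) =
        algebraMap B _ c * (1 + e 0) + algebraMap B _ c * (1 + e 1) := by
      have h3 : (2 : MvPolynomial (Fin 2) B ⧸ I) * algebraMap B _ c = 1 := by
        rw [← map_one (algebraMap B (MvPolynomial (Fin 2) B ⧸ I)), ← hc, map_mul, map_ofNat]
      change 1 = algebraMap B _ c * (1 + x) + algebraMap B _ c * (1 + -x)
      linear_combination -h3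
    have h4 := Ideal.add_mem (Ideal.span (Set.range fun i => 1 + e i))
      (Ideal.mul_mem_left _ (algebraMap B _ c) (Ideal.subset_span ⟨0, rfl⟩))
      (Ideal.mul_mem_left _ (algebraMap B _ c) (Ideal.subset_span ⟨1, rfl⟩))
    exact (congrArg (· ∈ Ideal.span (Set.range fun i => 1 + e i)) h1).mpr h4
  · intro i
    refine cong_std_baseChange (lam := lam) hlam h H hb' (s := s) (s' := (s⁻¹ : Bˣ)) (c := c)
      (s.mul_inv) hc ?_ _ (σ := algebraMap (MvPolynomial (Fin 2) B ⧸ I) _ (e i)) ?_ ?_
    · rw [hs, map_add, map_one, hδ]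
    · rw [← map_mul, hee, ← IsScalarTower.algebraMap_apply]
    · have := IsLocalization.Away.algebraMap_isUnit (S := Localization.Away (1 + e i)) (1 + e i)
      rwa [map_add, map_one] at this

end

end K867.Sqrt
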