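import Mathlib.RingTheory.Localization.BaseChange
import Mathlib.RingTheory.Localization.Away.Basic
import Mathlib.RingTheory.Localization.AtPrime.Basic
import Mathlib.RingTheory.Ideal.Quotient.Operations
import Mathlib.Algebra.MvPolynomial.Eval

/-!
Morphisms of `B`-algebras which are localisations at a submonoid `T` of `B`, in an elementary form,
and a generic spreading-out statement.
-/

namespace K867.TLoc

universe u v w

open scoped TensorProduct

variable {B : Type u} [CommRing B]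

/-- `φ : X → Y` is the localisation at (the image of) `T`. -/
structure TLoc (T : Submonoid B) {X : Type v} {Y : Type w} [CommRing X] [CommRing Y] [Algebra B X]
    [Algebra B Y] (φ : X →ₐ[B] Y) : Prop where
  unit : ∀ t ∈ T, IsUnit (algebraMap B Y t)
  surj : ∀ y, ∃ t ∈ T, ∃ x, algebraMap B Y t * y = φ x
  ker : ∀ x, φ x = 0 → ∃ t ∈ T, algebraMap B X t * x = 0

variable {T : Submonoid B}

section families

variable {X : Type v} {Y : Type w} [CommRing X] [CommRing Y] [Algebra B X]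
    [Algebra B Y] {φ : X →ₐ[B] Y}

lemma TLoc.surj_family (h : TLoc T φ) {ι : Type*} [Finite ι] (y : ι → Y) :
    ∃ t ∈ T, ∃ x : ι → X, ∀ i, algebraMap B Y t * y i = φ (x i) := by
  classical
  have := Fintype.ofFinite ι
  choose t ht x hx using fun i => h.surj (y i)
  refine ⟨∏ i, t i, prod_mem fun i _ => ht i,
    fun i => algebraMap B X (∏ j ∈ Finset.univ.erase i, t j) * x i, fun i => ?_⟩
  rw [← Finset.prod_erase_mul Finset.univ t (Finset.mem_univ i), map_mul, mul_assoc, hx, map_mul,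
    AlgHom.commutes]

lemma TLoc.ker_family (h : TLoc T φ) {ι : Type*} [Finite ι] (x : ι → X) (hx : ∀ i, φ (x i) = 0) :
    ∃ t ∈ T, ∀ i, algebraMap B X t * x i = 0 := by
  classical
  have := Fintype.ofFinite ι
  choose t ht h0 using fun i => h.ker (x i) (hx i)
  refine ⟨∏ i, t i, prod_mem fun i _ => ht i, fun i => ?_⟩
  rw [← Finset.prod_erase_mul Finset.univ t (Finset.mem_univ i), map_mul, mul_assoc, h0, mul_zero]

lemma TLoc.eq_family (h : TLoc T φ) {ι : Type*} [Finite ι] (x y : ι → X)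
    (hxy : ∀ i, φ (x i) = φ (y i)) :
    ∃ t ∈ T, ∀ i, algebraMap B X t * x i = algebraMap B X t * y i := by
  obtain ⟨t, ht, h1⟩ := h.ker_family (fun i => x i - y i)
    (fun i => by rw [map_sub, hxy, sub_self])
  exact ⟨t, ht, fun i => by rw [← sub_eq_zero, ← mul_sub]; exact h1 i⟩

end families

section isLoc

/-- comparison of two localisations of `B`. -/
lemma tloc_of_isLocalization {M : Submonoid B} (X Y : Type*) [CommRing X]
    [CommRing Y] [Algebra B X] [Algebra B Y] [IsLocalization M X] [IsLocalization T Y]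
    (φ : X →ₐ[B] Y) : TLoc T φ where
  unit t ht := IsLocalization.map_units Y (⟨t, ht⟩ : T)
  surj y := by
    obtain ⟨⟨x, t⟩, h⟩ := IsLocalization.surj T y
    exact ⟨t, t.2, algebraMap B X x, by rw [AlgHom.commutes, ← h, mul_comm]⟩
  ker x hx := by
    obtain ⟨⟨a, m⟩, h⟩ := IsLocalization.surj M x
    have h1 := congrArg φ h
    simp only at h1
    rw [map_mul, hx, zero_mul, AlgHom.commutes] at h1
    obtain ⟨t, ht⟩ := (IsLocalization.map_eq_zero_iff T Y a).1 h1.symm
    refine ⟨t, t.2, ?_⟩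
    have hm : IsUnit (algebraMap B X m) := IsLocalization.map_units X m
    have h2 : (algebraMap B X t * x) * algebraMap B X m = 0 := by
      simp only at h
      rw [mul_assoc, h, ← map_mul, ht, map_zero]
    rwa [hm.mul_left_eq_zero] at h2

lemma TLoc.isLocalization {X : Type v} {Y : Type w} [CommRing X] [CommRing Y] [Algebra B X]
    [Algebra B Y] {φ : X →ₐ[B] Y} (h : TLoc T φ) :
    @IsLocalization X _ (Algebra.algebraMapSubmonoid X T) Y _ φ.toRingHom.toAlgebra := by
  let _ := φ.toRingHom.toAlgebra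
  have hal : ∀ x, algebraMap X Y x = φ x := fun _ => rfl
  refine { map_units := ?_, surj := ?_, exists_of_eq := ?_ }
  · rintro ⟨_, t, ht, rfl⟩
    rw [hal]
    change IsUnit (φ (algebraMap B X t))
    rw [AlgHom.commutes]
    exact h.unit t ht
  · intro y
    obtain ⟨t, ht, x, hx⟩ := h.surj y
    refine ⟨(x, ⟨_, t, ht, rfl⟩), ?_⟩
    rw [hal, hal]
    change y * φ (algebraMap B X t) = φ x
    rw [AlgHom.commutes, mul_comm, hx]
  · intro x y hxy
    rw [hal, hal] at hxy
    obtain ⟨t, ht, hh⟩ := h.eq_family (fun _ : Unit => x) (fun _ => y) (fun _ => hxy)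
    exact ⟨⟨_, t, ht, rfl⟩, hh ()⟩

end isLoc

section mvPoly

variable {X : Type v} {Y : Type w} [CommRing X] [CommRing Y] [Algebra B X]
    [Algebra B Y] {φ : X →ₐ[B] Y}

open MvPolynomial in
lemma TLoc.mvPolynomial (h : TLoc T φ) (σ : Type*) :
    TLoc T (MvPolynomial.mapAlgHom (σ := σ) φ) where
  unit t ht := by
    rw [MvPolynomial.algebraMap_apply]
    exact (h.unit t ht).map C
  surj y := by
    induction y using MvPolynomial.induction_on with
    | C a =>
      obtain ⟨t, ht, x, hx⟩ := h.surj a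
      refine ⟨t, ht, C x, ?_⟩
      rw [MvPolynomial.algebraMap_apply, ← map_mul, hx, mapAlgHom_apply, map_C]
      rfl
    | add p q hp hq =>
      obtain ⟨t, ht, x, hx⟩ := hp
      obtain ⟨t', ht', x', hx'⟩ := hq
      refine ⟨t * t', mul_mem ht ht', algebraMap B _ t' * x + algebraMap B _ t * x', ?_⟩
      rw [map_add, map_mul (mapAlgHom φ), map_mul (mapAlgHom φ), ← hx, ← hx', AlgHom.commutes,
        AlgHom.commutes, map_mul]
      ring
    | mul_X p n hp =>
      obtain ⟨t, ht, x, hx⟩ := hp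
      refine ⟨t, ht, x * MvPolynomial.X n, ?_⟩
      have hXn : mapAlgHom φ (MvPolynomial.X n : MvPolynomial σ X) = MvPolynomial.X n := by
        rw [mapAlgHom_apply, map_X]
      rw [← mul_assoc, hx, map_mul, hXn]
  ker x hx := by
    have hc : ∀ d : x.support, φ (x.coeff d) = 0 := by
      intro d
      have := congrArg (MvPolynomial.coeff (d : σ →₀ ℕ)) hx
      rw [MvPolynomial.coeff_zero] at this
      rw [← this]
      exact (MvPolynomial.coeff_map (φ : X →+* Y) x d).symm
    obtain ⟨t, ht, h0⟩ := h.ker_family (fun d : x.support => x.coeff d) hc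
    refine ⟨t, ht, ?_⟩
    ext d
    rw [MvPolynomial.algebraMap_apply, coeff_C_mul, coeff_zero]
    by_cases hd : d ∈ x.support
    · exact h0 ⟨d, hd⟩
    · rw [MvPolynomial.notMem_support_iff.1 hd, mul_zero]

end mvPoly

section quot

variable {X : Type v} {Y : Type w} [CommRing X] [CommRing Y] [Algebra B X]
    [Algebra B Y] {φ : X →ₐ[B] Y}

lemma TLoc.mem_map (h : TLoc T φ) (I : Ideal X) {y : Y} (hy : y ∈ I.map φ) :
    ∃ t ∈ T, ∃ a ∈ I, algebraMap B Y t * y = φ a := by
  refine Submodule.span_induction (p := fun y _ => ∃ t ∈ T, ∃ a ∈ I, algebraMap B Y t * y = φ a)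
    ?_ ?_ ?_ ?_ hy
  · rintro _ ⟨a, ha, rfl⟩
    exact ⟨1, one_mem _, a, ha, by rw [map_one, one_mul]⟩
  · exact ⟨1, one_mem _, 0, I.zero_mem, by rw [mul_zero, map_zero]⟩
  · rintro x y _ _ ⟨t, ht, a, ha, h1⟩ ⟨t', ht', a', ha', h1'⟩
    refine ⟨t * t', mul_mem ht ht', algebraMap B _ t' * a + algebraMap B _ t * a',
      I.add_mem (I.mul_mem_left _ ha) (I.mul_mem_left _ ha'), ?_⟩
    rw [map_add, map_mul φ, map_mul φ, ← h1, ← h1', AlgHom.commutes,
        AlgHom.commutes, map_mul]
    ring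
  · rintro c y _ ⟨t, ht, a, ha, h1⟩
    obtain ⟨t', ht', c', hc'⟩ := h.surj c
    refine ⟨t * t', mul_mem ht ht', c' * a, I.mul_mem_left _ ha, ?_⟩
    rw [map_mul φ, ← h1, ← hc', smul_eq_mul, map_mul]
    ring

lemma TLoc.quotient (h : TLoc T φ) (I : Ideal X) (J : Ideal Y) (hJ : J = I.map φ)
    (hIJ : I ≤ J.comap φ) : TLoc T (Ideal.quotientMapₐ J φ hIJ) where
  unit t ht := by
    rw [IsScalarTower.algebraMap_apply B Y (Y ⧸ J)]
    exact (h.unit t ht).map _
  surj y := by
    obtain ⟨y, rfl⟩ := Ideal.Quotient.mk_surjective y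
    obtain ⟨t, ht, x, hx⟩ := h.surj y
    refine ⟨t, ht, Ideal.Quotient.mk I x, ?_⟩
    rw [IsScalarTower.algebraMap_apply B Y (Y ⧸ J), Ideal.Quotient.algebraMap_eq, ← map_mul, hx]
    rfl
  ker x hx := by
    obtain ⟨x, rfl⟩ := Ideal.Quotient.mk_surjective x
    have h1 : φ x ∈ J := by
      rw [← Ideal.Quotient.eq_zero_iff_mem]
      exact hx
    rw [hJ] at h1
    obtain ⟨t, ht, a, ha, h2⟩ := h.mem_map I h1
    rw [← AlgHom.commutes φ, ← map_mul] at h2
    obtain ⟨t', ht', h3⟩ := h.eq_family (fun _ : Unit => algebraMap B X t * x) (fun _ => a)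
      (fun _ => h2)
    refine ⟨t' * t, mul_mem ht' ht, ?_⟩
    rw [IsScalarTower.algebraMap_apply B X (X ⧸ I), Ideal.Quotient.algebraMap_eq, ← map_mul,
      Ideal.Quotient.eq_zero_iff_mem, map_mul, mul_assoc, h3 ()]
    exact I.mul_mem_left _ ha

end quot

section away

variable {X : Type v} {Y : Type w} [CommRing X] [CommRing Y] [Algebra B X]
    [Algebra B Y] {φ : X →ₐ[B] Y}

lemma TLoc.away (h : TLoc T φ) (f : X) (X' : Type*) [CommRing X'] [Algebra B X'] [Algebra X X']
    [IsScalarTower B X X'] [IsLocalization.Away f X']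
    (Y' : Type*) [CommRing Y'] [Algebra B Y'] [Algebra Y Y']
    [IsScalarTower B Y Y'] [IsLocalization.Away (φ f) Y'] (ψ : X' →ₐ[B] Y')
    (hψ : ∀ x, ψ (algebraMap X X' x) = algebraMap Y Y' (φ x)) : TLoc T ψ where
  unit t ht := by
    rw [IsScalarTower.algebraMap_apply B Y Y']
    exact (h.unit t ht).map _
  surj y := by
    obtain ⟨k, q, hq⟩ := IsLocalization.Away.surj (φ f) y
    obtain ⟨t, ht, q₀, hq₀⟩ := h.surj q
    have hu : IsUnit (algebraMap X X' f) := IsLocalization.Away.algebraMap_isUnit f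
    obtain ⟨c, hc⟩ := hu.exists_right_inv
    refine ⟨t, ht, algebraMap X X' q₀ * c ^ k, ?_⟩
    have hu' : IsUnit (algebraMap Y Y' (φ f) ^ k) :=
      (IsLocalization.Away.algebraMap_isUnit (φ f)).pow k
    rw [← hu'.mul_left_inj, mul_assoc, hq, map_mul, hψ, ← hq₀, map_mul,
      ← IsScalarTower.algebraMap_apply B Y Y', mul_assoc, ← hψ, ← map_pow, ← map_mul, ← mul_pow,
      mul_comm c, hc, one_pow, map_one, mul_one]
  ker x hx := by
    obtain ⟨k, q, hq⟩ := IsLocalization.Away.surj f x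
    have h1 := congrArg ψ hq
    rw [map_mul, hx, zero_mul, hψ, ← map_zero (algebraMap Y Y')] at h1
    obtain ⟨n, hn⟩ := IsLocalization.Away.exists_of_eq (φ f) h1
    rw [mul_zero, ← map_pow, ← map_mul] at hn
    obtain ⟨t, ht, h2⟩ := h.ker _ hn.symm
    refine ⟨t, ht, ?_⟩
    have hu : IsUnit (algebraMap X X' f ^ (n + k)) :=
      (IsLocalization.Away.algebraMap_isUnit f).pow _
    rw [← hu.mul_left_eq_zero, pow_add]
    have h3 : algebraMap B X' t * x * (algebraMap X X' f ^ n * algebraMap X X' f ^ k) =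
      algebraMap X X' (algebraMap B X t * (f ^ n * q)) := by
      rw [map_mul, map_mul, map_pow, ← hq, ← IsScalarTower.algebraMap_apply]
      ring
    rw [h3, h2, map_zero]

end away

section tensor

variable {X : Type v} {Y : Type w} [CommRing X] [CommRing Y] [Algebra B X]
    [Algebra B Y] {φ : X →ₐ[B] Y}

lemma TLoc.tensor (h : TLoc T φ) (A : Type*) [CommRing A] [Algebra B A] :
    TLoc T (Algebra.TensorProduct.map φ (AlgHom.id B A) : X ⊗[B] A →ₐ[B] Y ⊗[B] A) := by
  let _ := φ.toRingHom.toAlgebra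
  have hXY : IsScalarTower B X Y := IsScalarTower.of_algebraMap_eq fun b => (φ.commutes b).symm
  have hloc : IsLocalization (Algebra.algebraMapSubmonoid X T) Y := h.isLocalization
  let _ : Algebra (X ⊗[B] A) (Y ⊗[B] A) :=
    (Algebra.TensorProduct.map φ (AlgHom.id B A)).toRingHom.toAlgebra
  have hst : IsScalarTower X (X ⊗[B] A) (Y ⊗[B] A) := IsScalarTower.of_algebraMap_eq fun x => by
    change _ = (Algebra.TensorProduct.map φ (AlgHom.id B A)) (x ⊗ₜ 1)
    rw [Algebra.TensorProduct.map_tmul, map_one]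
    rfl
  have hl := IsLocalization.tensorProduct_tensorProduct B A (Algebra.algebraMapSubmonoid X T) Y
    (by
      ext a
      change (Algebra.TensorProduct.map φ (AlgHom.id B A)) (1 ⊗ₜ a) = 1 ⊗ₜ a
      rw [Algebra.TensorProduct.map_tmul, map_one]
      rfl)
  have hal : ∀ x, algebraMap (X ⊗[B] A) (Y ⊗[B] A) x =
    (Algebra.TensorProduct.map φ (AlgHom.id B A)) x := fun _ => rfl
  have hmem : ∀ m ∈ Algebra.algebraMapSubmonoid (X ⊗[B] A) (Algebra.algebraMapSubmonoid X T),
      ∃ t ∈ T, m = algebraMap B (X ⊗[B] A) t := by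
    rintro _ ⟨_, ⟨t, ht, rfl⟩, rfl⟩
    exact ⟨t, ht, rfl⟩
  refine ⟨?_, ?_, ?_⟩
  · intro t ht
    rw [IsScalarTower.algebraMap_apply B Y (Y ⊗[B] A)]
    exact (h.unit t ht).map _
  · intro y
    obtain ⟨⟨x, ⟨m, hm⟩⟩, hy⟩ := IsLocalization.surj
      (Algebra.algebraMapSubmonoid (X ⊗[B] A) (Algebra.algebraMapSubmonoid X T)) y
    obtain ⟨t, ht, rfl⟩ := hmem m hm
    refine ⟨t, ht, x, ?_⟩
    rw [hal, hal, AlgHom.commutes] at hy
    rw [mul_comm]; exact hy
  · intro x hx
    rw [← hal, IsLocalization.map_eq_zero_iff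
      (Algebra.algebraMapSubmonoid (X ⊗[B] A) (Algebra.algebraMapSubmonoid X T))] at hx
    obtain ⟨⟨m, hm⟩, hmx⟩ := hx
    obtain ⟨t, ht, rfl⟩ := hmem m hm
    exact ⟨t, ht, hmx⟩

end tensor

end K867.TLoc
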